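import Groth.Agent.Calg2.CohenRing
import Groth.Prelude.Def_EGA41
import Mathlib.RingTheory.AdicCompletion.Functoriality

/-! Lifting homomorphisms of residue fields to Cohen rings. -/

universe u

namespace Groth.Ega41Flat

open IsLocalRing EGA41

/-- A Cohen ring maps to every complete local ring compatibly with a map of residue fields. -/
theorem exists_lift_cohenRing {W R : Type u} [CommRing W] [IsLocalRing W] [CommRing R] [IsLocalRing R]
    [IsAdicComplete (maximalIdeal R) R] (hW : CAlg.IsCohenRing W) (φ : ResidueField W →+* ResidueField R) :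
    ∃ g : W →+* R, ∀ w, residue R (g w) = φ (residue W w) := by
  obtain ⟨hdom, hdvr, hcomp, q, hq, hmq⟩ := hW
  haveI := Fact.mk hq
  haveI : (Ideal.span {(q : W)}).IsMaximal := hmq ▸ maximalIdeal.isMaximal W
  have hq0 : (q : W) ≠ 0 := fun h0 => IsDiscreteValuationRing.not_a_field W (by
    rw [hmq, h0]; exact Ideal.span_singleton_eq_bot.2 rfl)
  have hqR : (q : R) ∈ maximalIdeal R := by
    rw [← residue_eq_zero_iff, map_natCast, ← map_natCast φ, ← map_natCast (residue W),
      (residue_eq_zero_iff _).2 (hmq ▸ Ideal.mem_span_singleton_self (q : W)), map_zero]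
  let g₀ : W →+* R ⧸ maximalIdeal R ^ (0 + 1) :=
    (Ideal.quotEquivOfEq (pow_one (maximalIdeal R)).symm).toRingHom.comp (φ.comp (residue W))
  obtain ⟨g, hg⟩ := Groth.Calg2.CohenRing.exists_lift_filtration (p := q)
    (fun x hx => (mul_eq_zero.1 hx).resolve_left hq0) (maximalIdeal R)
    (fun n => maximalIdeal R ^ (n + 1)) (fun n => Ideal.pow_le_pow_right (by omega))
    (fun n => Ideal.pow_le_pow_right (by omega))
    (fun n => by rw [← pow_add]; exact Ideal.pow_le_pow_right (by omega))
    (fun n x hx => by rw [pow_succ' (maximalIdeal R) (n + 1)]; exact Ideal.mul_mem_mul hqR hx) g₀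
  refine ⟨g, fun w => ?_⟩
  obtain ⟨c, hc⟩ := residue_surjective (φ (residue W w))
  rw [← hc, ← sub_eq_zero, ← map_sub, residue_eq_zero_iff]
  have h := hg 1 w c (by
    show Ideal.Quotient.mk _ c = Ideal.quotEquivOfEq (pow_one (maximalIdeal R)).symm (φ (residue W w))
    rw [← hc]
    exact (Ideal.quotEquivOfEq_mk _ _).symm)
  simpa using h

/-- An isomorphism of residue fields of Cohen rings lifts. -/
theorem exists_ringEquiv_cohenRing {W W' : Type u} [CommRing W] [IsLocalRing W] [CommRing W'] [IsLocalRing W']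
    (hW : CAlg.IsCohenRing W) (hW' : CAlg.IsCohenRing W') (u : ResidueField W ≃+* ResidueField W') :
    ∃ v : W ≃+* W', ∀ x, residue W' (v x) = u (residue W x) := by
  obtain ⟨hdom, hdvr, hcomp, q, hq, hmq⟩ := hW
  obtain ⟨hdom', hdvr', hcomp', q', hq', hmq'⟩ := hW'
  obtain ⟨g, hg⟩ := exists_lift_cohenRing (R := W') ⟨hdom, hdvr, hcomp, q, hq, hmq⟩ u.toRingHom
  have hqq : q = q' := by
    by_contra hne
    have h1 : (q : W') ∈ maximalIdeal W' := by
      rw [← residue_eq_zero_iff, map_natCast, ← map_natCast u, ← map_natCast (residue W),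
        (residue_eq_zero_iff _).2 (hmq ▸ Ideal.mem_span_singleton_self (q : W)), map_zero]
    have h2 : (q' : W') ∈ maximalIdeal W' := hmq' ▸ Ideal.mem_span_singleton_self _
    obtain ⟨a, b, hab⟩ := (Nat.isCoprime_iff_coprime.mpr ((Nat.coprime_primes hq hq').mpr hne) : IsCoprime (q : ℤ) q')
    refine (maximalIdeal.isMaximal W').ne_top ((Ideal.eq_top_iff_one _).mpr ?_)
    have h3 : ((a * q + b * q' : ℤ) : W') = 1 := by rw [hab, Int.cast_one]
    rw [← h3]
    push_cast
    exact add_mem (Ideal.mul_mem_left _ _ h1) (Ideal.mul_mem_left _ _ h2)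
  subst hqq
  have hmap : (maximalIdeal W).map g = maximalIdeal W' := by
    rw [hmq, Ideal.map_span, Set.image_singleton, map_natCast, ← hmq']
  haveI : IsHausdorff ((maximalIdeal W).map g) W' := by rw [hmap]; exact hcomp'.toIsHausdorff
  haveI := hcomp
  have hsurj : Function.Surjective g := surjective_of_mk_map_comp_surjective (f := g) (I := maximalIdeal W) fun y => by
    obtain ⟨y, rfl⟩ := Ideal.Quotient.mk_surjective y
    obtain ⟨x, hx⟩ := residue_surjective (u.symm (residue W' y))
    refine ⟨x, Ideal.Quotient.eq.mpr ?_⟩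
    rw [hmap, ← residue_eq_zero_iff, map_sub, hg, hx]
    show u (u.symm _) - _ = 0
    rw [u.apply_symm_apply, sub_self]
  have hinj : Function.Injective g := by
    rw [RingHom.injective_iff_ker_eq_bot]
    by_contra hne
    have hker : RingHom.ker g = maximalIdeal W :=
      IsLocalRing.eq_maximalIdeal (Ideal.IsPrime.isMaximal (RingHom.ker_isPrime g) hne)
    exact IsDiscreteValuationRing.not_a_field W' (by rw [← hmap, Ideal.map_eq_bot_iff_le_ker, hker])
  exact ⟨RingEquiv.ofBijective g ⟨hinj, hsurj⟩, hg⟩

/-- The general case: Cohen rings in the wider sense. -/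
theorem exists_ringEquiv_cohenRingEGA {W W' : Type u} [CommRing W] [IsLocalRing W] [CommRing W'] [IsLocalRing W']
    (hW : IsCohenRingEGA W) (hW' : IsCohenRingEGA W') (u : ResidueField W ≃+* ResidueField W') :
    ∃ v : W ≃+* W', ∀ x, residue W' (v x) = u (residue W x) := by
  have hbij : ∀ (V : Type u) [CommRing V] [IsLocalRing V], IsField V → Function.Bijective (residue V) := fun V _ _ hF => by
    refine ⟨?_, residue_surjective⟩
    rw [RingHom.injective_iff_ker_eq_bot, IsLocalRing.ker_residue]
    exact IsLocalRing.isField_iff_maximalIdeal_eq.mp hF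
  have hchar : ∀ (V : Type u) [CommRing V] [IsLocalRing V], CAlg.IsCohenRing V → ¬ CharZero (ResidueField V) := by
    intro V _ _ ⟨_, _, _, q, hq, hmq⟩ hc
    exact hq.ne_zero (Nat.cast_eq_zero.mp
      (show (q : ResidueField V) = 0 by
        rw [← map_natCast (residue V), residue_eq_zero_iff, hmq]; exact Ideal.mem_span_singleton_self _))
  rcases hW with ⟨hF, hc⟩ | hW <;> rcases hW' with ⟨hF', hc'⟩ | hW'
  · refine ⟨((RingEquiv.ofBijective _ (hbij W hF)).trans u).trans (RingEquiv.ofBijective _ (hbij W' hF')).symm, fun x => ?_⟩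
    exact (RingEquiv.ofBijective _ (hbij W' hF')).apply_symm_apply _
  · haveI := hc
    haveI : CharZero (ResidueField W) := charZero_of_injective_ringHom (hbij W hF).1
    exact absurd (charZero_of_injective_ringHom (f := u.toRingHom) u.injective) (hchar W' hW')
  · haveI := hc'
    haveI : CharZero (ResidueField W') := charZero_of_injective_ringHom (hbij W' hF').1
    exact absurd (charZero_of_injective_ringHom (f := u.symm.toRingHom) u.symm.injective) (hchar W hW)
  · exact exists_ringEquiv_cohenRing hW hW' u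

end Groth.Ega41Flat
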