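import Groth.Agent.Ega41Flat.PowerSeries
import Groth.Agent.Ega41Flat.CohenRing
import Groth.Agent.Ega41Exist.Geometric
import Groth.Agent.S2470
import Groth.Agent.Calg2.CompleteStructure
import Groth.Agent.Calg1.AnalyticallyUnramifiedN1
import Mathlib.RingTheory.TensorProduct.Quotient

/-! Existence of flat complete lifts of complete regular local algebras over the residue field. -/

universe u

namespace Groth.Ega41Flat

open IsLocalRing MvPowerSeries Groth.SGA7.PS

/-- A surjection of Noetherian local rings of the same finite dimension out of a domain is injective. -/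
theorem injective_of_ringKrullDim_eq {R S : Type u} [CommRing R] [CommRing S] [IsLocalRing R] [IsNoetherianRing R]
    [IsDomain R] (f : R →+* S) (hf : Function.Surjective f) (h : ringKrullDim R = ringKrullDim S) :
    Function.Injective f := by
  rw [RingHom.injective_iff_ker_eq_bot]
  by_contra hne
  obtain ⟨x, hx, hx0⟩ := Submodule.exists_mem_ne_zero_of_ne_bot hne
  have h1 := ringKrullDim_quotient_succ_le_of_nonZeroDivisor (mem_nonZeroDivisors_of_ne_zero hx0)
  let g : R ⧸ Ideal.span {x} →+* S := Ideal.Quotient.lift _ f fun y hy => by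
    rw [← RingHom.mem_ker]
    exact (Ideal.span_singleton_le_iff_mem _).mpr hx hy
  have h2 : ringKrullDim S ≤ ringKrullDim (R ⧸ Ideal.span {x}) :=
    ringKrullDim_le_of_surjective g (Ideal.Quotient.lift_surjective_of_surjective _ _ hf)
  obtain ⟨d, hd⟩ := Groth.Agent.S2470.exists_nat_dim R
  have h3 : ringKrullDim (R ⧸ Ideal.span {x}) + 1 ≤ ringKrullDim (R ⧸ Ideal.span {x}) := h1.trans (h ▸ h2)
  haveI : Nontrivial (R ⧸ Ideal.span {x}) := Ideal.Quotient.nontrivial_iff.mpr fun htop => by
    haveI : Nontrivial S := by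
      by_contra hS
      haveI := not_nontrivial_iff_subsingleton.mp hS
      rw [ringKrullDim_eq_bot_of_subsingleton (R := S), hd] at h
      exact WithBot.coe_ne_bot (a := (d : ℕ∞)) h
    have : f 1 = 0 := (Ideal.span_singleton_le_iff_mem _).mpr hx (htop ▸ Submodule.mem_top)
    exact one_ne_zero ((map_one f).symm.trans this)
  haveI : IsLocalRing (R ⧸ Ideal.span {x}) := IsLocalRing.of_surjective' _ Ideal.Quotient.mk_surjective
  obtain ⟨e, he⟩ := Groth.Agent.S2470.exists_nat_dim (R ⧸ Ideal.span {x})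
  rw [he] at h3
  have : e + 1 ≤ e := by exact_mod_cast h3
  omega

/-- A regular complete local ring over a coefficient ring lifting `θ`. -/
theorem exists_regular_lift {Λ B₀ : Type u} [CommRing Λ] [IsLocalRing Λ] [CommRing B₀] [IsRegularLocalRing B₀]
    [IsAdicComplete (maximalIdeal B₀) B₀] (hΛ : IsField Λ ∨ CAlg.IsCohenRing Λ)
    (θ : Λ →+* B₀) (hθ : ∀ x ∈ maximalIdeal Λ, θ x = 0) :
    ∃ (C : Type u) (_ : CommRing C) (_ : IsRegularLocalRing C) (φ : Λ →+* C) (π : C →+* B₀),
      IsAdicComplete (maximalIdeal C) C ∧ Function.Surjective π ∧ π.comp φ = θ ∧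
      RingHom.ker π = (maximalIdeal Λ).map φ ∧ ringKrullDim C = ringKrullDim Λ + ringKrullDim B₀ := by
  rcases hΛ with hF | hW
  · refine ⟨B₀, inferInstance, inferInstance, θ, RingHom.id B₀, inferInstance, Function.surjective_id, rfl, ?_, ?_⟩
    · rw [IsLocalRing.isField_iff_maximalIdeal_eq.mp hF, Ideal.map_bot, eq_bot_iff]
      exact fun x hx => hx
    · rw [ringKrullDim_eq_zero_of_isField hF, zero_add]
  · obtain ⟨hdom, hdvr, hcomp, q, hq, hmq⟩ := hW
    haveI := Fact.mk hq
    have hqB : (q : B₀) = 0 := by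
      rw [← map_natCast θ]; exact hθ _ (hmq ▸ Ideal.mem_span_singleton_self _)
    haveI : CharP (ResidueField B₀) q := (CharP.charP_iff_prime_eq_zero hq).2 (by
      rw [← map_natCast (residue B₀), hqB, map_zero])
    obtain ⟨W, _, _, hW', ⟨e⟩⟩ := Groth.Calg2.CohenRing.exists_cohenRing q (ResidueField B₀)
    obtain ⟨g, hg⟩ := exists_lift_cohenRing (R := B₀) hW' e.toRingHom
    have hgs : Function.Surjective ((residue B₀).comp g) := fun y => by
      obtain ⟨w, hw⟩ := residue_surjective (e.symm y)
      exact ⟨w, by rw [RingHom.comp_apply, hg, hw]; exact e.apply_symm_apply y⟩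
    obtain ⟨hdomW, hdvrW, hcompW, q', hq', hmW⟩ := hW'
    have hqq : q' = q := by
      have h0 : (q' : ResidueField B₀) = 0 := by
        rw [← map_natCast e, ← map_natCast (residue W),
          (residue_eq_zero_iff _).2 (hmW ▸ Ideal.mem_span_singleton_self (q' : W)), map_zero]
      exact ((Nat.prime_dvd_prime_iff_eq hq hq').1 ((CharP.cast_eq_zero_iff (ResidueField B₀) q q').1 h0)).symm
    subst hqq
    obtain ⟨r, hr⟩ : ∃ r : ℕ, (maximalIdeal B₀).spanFinrank = r := ⟨_, rfl⟩
    obtain ⟨a, ha⟩ := Groth.Ega4Algebra1.exists_span_eq_maximalIdeal (R := B₀) hr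
    have ham : ∀ i, a i ∈ maximalIdeal B₀ := fun i => ha ▸ Ideal.subset_span ⟨i, rfl⟩
    let C := MvPowerSeries (Fin r) W
    haveI hregC : IsRegularLocalRing C := Groth.LocDual.isRegularLocalRing_mvPowerSeries W r
    haveI hcompC : IsAdicComplete (maximalIdeal C) C := isAdicComplete_mvPowerSeries W r
    let π : C →+* B₀ := Groth.Calg2.CompleteStructure.ev g a ham
    have hπ : Function.Surjective π := Groth.Calg2.CompleteStructure.surjective_ev g hgs a ham ha
    have hkres : RingHom.ker (residue W) = Ideal.span {(q' : W)} := by rw [IsLocalRing.ker_residue, hmW]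
    have hπq : π (q' : C) = 0 := by rw [map_natCast, hqB]
    let red : C →+* MvPowerSeries (Fin r) (ResidueField W) := MvPowerSeries.map (residue W)
    have hred : Function.Surjective red := fun z => by
      choose l hl using fun d => residue_surjective (coeff d z)
      let z₂ : C := fun d => l d
      exact ⟨z₂, MvPowerSeries.ext fun d => by rw [coeff_map]; exact hl d⟩
    have hkred : RingHom.ker red = Ideal.span {(q' : C)} := by
      rw [ker_map W (residue W) _ hkres r, map_natCast]
    let π₁ : MvPowerSeries (Fin r) (ResidueField W) →+* B₀ :=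
      RingHom.liftOfSurjective red hred ⟨π, by
        rw [hkred, Ideal.span_le, Set.singleton_subset_iff]; exact hπq⟩
    have hπ₁ : ∀ z, π₁ (red z) = π z := fun z => RingHom.liftOfRightInverse_comp_apply _ _ _ _ z
    haveI : IsRegularLocalRing (MvPowerSeries (Fin r) (ResidueField W)) := Groth.Calg6.isRegularLocalRing_mvPowerSeries _ r
    haveI : IsDomain (MvPowerSeries (Fin r) (ResidueField W)) := Groth.Ega4Algebra1.isDomain_of_isRegularLocalRing _
    have hinj : Function.Injective π₁ := by
      refine injective_of_ringKrullDim_eq π₁ (fun y => ?_) ?_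
      · obtain ⟨z, rfl⟩ := hπ y
        exact ⟨red z, hπ₁ z⟩
      · rw [Groth.Calg6.ringKrullDim_mvPowerSeries, ← IsRegularLocalRing.spanFinrank_maximalIdeal (R := B₀), hr]
    have hkπ : RingHom.ker π = Ideal.span {(q' : C)} := by
      rw [← hkred]
      ext z
      rw [RingHom.mem_ker, RingHom.mem_ker, ← hπ₁, map_eq_zero_iff _ hinj]
    let h₀ : Λ →+* C ⧸ Ideal.span {(q' : C)} ^ (0 + 1) :=
      (Ideal.quotEquivOfEq (show RingHom.ker π = _ by rw [hkπ, pow_one])).toRingHom.comp
        ((RingHom.quotientKerEquivOfSurjective hπ).symm.toRingHom.comp θ)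
    haveI : (Ideal.span {(q' : Λ)}).IsMaximal := hmq ▸ maximalIdeal.isMaximal Λ
    have hq0 : (q' : Λ) ≠ 0 := fun h0 => IsDiscreteValuationRing.not_a_field Λ (by
      rw [hmq, h0]; exact Ideal.span_singleton_eq_bot.2 rfl)
    have hqC : (q' : C) ∈ maximalIdeal C := by
      by_contra hu
      exact not_isUnit_zero (M₀ := B₀) (hπq ▸ ((IsLocalRing.notMem_maximalIdeal.mp hu).map π))
    obtain ⟨φ, hφ⟩ := Groth.Calg2.CohenRing.exists_lift_filtration (p := q')
      (fun x hx => (mul_eq_zero.1 hx).resolve_left hq0) (maximalIdeal C)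
      (fun n => Ideal.span {(q' : C)} ^ (n + 1)) (fun n => Ideal.pow_le_pow_right (by omega))
      (fun n => (Ideal.pow_right_mono ((Ideal.span_singleton_le_iff_mem _).mpr hqC) _).trans
        (Ideal.pow_le_pow_right (by omega)))
      (fun n => by rw [← pow_add]; exact Ideal.pow_le_pow_right (by omega))
      (fun n x hx => by rw [pow_succ' _ (n + 1)]; exact Ideal.mul_mem_mul (Ideal.mem_span_singleton_self _) hx) h₀
    have hπφ : π.comp φ = θ := RingHom.ext fun l => by
      obtain ⟨c, hc⟩ := hπ (θ l)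
      have h1 := fun n => hφ n l c (by
        simp only [h₀, RingHom.comp_apply, RingEquiv.toRingHom_eq_coe, RingEquiv.coe_toRingHom, ← hc]
        rw [show (RingHom.quotientKerEquivOfSurjective hπ).symm (π c) = Ideal.Quotient.mk _ c from
          (RingEquiv.symm_apply_eq _).mpr rfl]
        exact (Ideal.quotEquivOfEq_mk _ _).symm)
      have h2 : ∀ n, π (φ l - c) ∈ maximalIdeal B₀ ^ n := fun n => by
        have h3 := Ideal.mem_map_of_mem π (h1 n)
        rw [Ideal.map_sup, Ideal.map_pow, Ideal.map_pow, Ideal.map_span, Set.image_singleton, hπq,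
          Ideal.span_singleton_eq_bot.2 rfl, pow_one, sup_bot_eq, IsLocalRing.map_maximalIdeal_of_surjective π hπ] at h3
        exact h3
      have h4 : π (φ l - c) ∈ ⨅ n, maximalIdeal B₀ ^ n := Ideal.mem_iInf.mpr h2
      rw [Ideal.iInf_pow_eq_bot_of_isLocalRing _ (maximalIdeal.isMaximal B₀).ne_top, Ideal.mem_bot, map_sub, sub_eq_zero] at h4
      rw [RingHom.comp_apply, h4, hc]
    refine ⟨C, inferInstance, hregC, φ, π, hcompC, hπ, hπφ, ?_, ?_⟩
    · rw [hkπ, hmq, Ideal.map_span, Set.image_singleton, map_natCast]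
    · rw [ringKrullDim_mvPowerSeries_eq, ← IsRegularLocalRing.spanFinrank_maximalIdeal (R := B₀), hr,
        IsDiscreteValuationRing.ringKrullDim_eq_one W, IsDiscreteValuationRing.ringKrullDim_eq_one Λ]

variable {A : Type u} [CommRing A] [IsLocalRing A] [IsNoetherianRing A]

/-- A flat complete lift of a complete regular local algebra over the residue field. -/
theorem exists_flat_lift (B₀ : Type u) [CommRing B₀] [IsRegularLocalRing B₀] [IsAdicComplete (maximalIdeal B₀) B₀]
    [Algebra (ResidueField A) B₀] :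
    ∃ (B : Type u) (_ : CommRing B) (_ : IsLocalRing B) (_ : IsNoetherianRing B) (_ : Algebra A B)
      (_ : IsLocalHom (algebraMap A B)) (π : B →+* B₀),
      IsAdicComplete (maximalIdeal B) B ∧ Module.Flat A B ∧ Function.Surjective π ∧
      RingHom.ker π = (maximalIdeal A).map (algebraMap A B) ∧
      ∀ a, π (algebraMap A B a) = algebraMap (ResidueField A) B₀ (residue A a) := by
  classical
  let R₁ := AdicCompletion (maximalIdeal A) A
  haveI : IsNoetherianRing R₁ :=
    Groth.Calg1.isNoetherianRing_adicCompletion _ (IsNoetherian.noetherian (maximalIdeal A))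
  let rbar : ResidueField A ≃+* ResidueField R₁ :=
    RingEquiv.ofBijective _ (Groth.Ega41Exist.bijective_residueField_map_completion (A := A))
  obtain ⟨Λ, _, ι, hι, hcase⟩ := Groth.Calg2.CompleteStructure.exists_coefficient R₁
  have hΛ : IsField Λ ∨ CAlg.IsCohenRing Λ := hcase.imp id fun h => h.1
  haveI hΛreg : IsRegularLocalRing Λ := by
    rcases hΛ with hF | ⟨hdom, hdvr, -⟩
    · letI := hF.toField
      exact inferInstance
    · infer_instance
  have hres : ∀ x ∈ maximalIdeal Λ, residue R₁ (ι x) = 0 := fun x hx => by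
    have hm : (RingHom.ker ((residue R₁).comp ι)).IsMaximal := RingHom.ker_isMaximal_of_surjective _ hι
    rw [← IsLocalRing.eq_maximalIdeal hm] at hx
    exact hx
  let θ : Λ →+* B₀ := (algebraMap (ResidueField A) B₀).comp (rbar.symm.toRingHom.comp ((residue R₁).comp ι))
  obtain ⟨C, _, _, φ, π₀, hC, hπ₀, hπφ, hker₀, hdim⟩ := exists_regular_lift (B₀ := B₀) hΛ θ fun x hx => by
    simp [θ, hres x hx]
  haveI := hC
  obtain ⟨n, hn⟩ : ∃ n : ℕ, (maximalIdeal R₁).spanFinrank = n := ⟨_, rfl⟩
  obtain ⟨a, ha⟩ := Groth.Ega4Algebra1.exists_span_eq_maximalIdeal (R := R₁) hn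
  have ham : ∀ i, a i ∈ maximalIdeal R₁ := fun i => ha ▸ Ideal.subset_span ⟨i, rfl⟩
  let P := MvPowerSeries (Fin n) Λ
  let Q := MvPowerSeries (Fin n) C
  haveI : IsRegularLocalRing P := Groth.LocDual.isRegularLocalRing_mvPowerSeries Λ n
  haveI : IsRegularLocalRing Q := Groth.LocDual.isRegularLocalRing_mvPowerSeries C n
  haveI : IsAdicComplete (maximalIdeal Q) Q := isAdicComplete_mvPowerSeries C n
  let ev₁ : P →+* R₁ := Groth.Calg2.CompleteStructure.ev ι a ham
  have hev : Function.Surjective ev₁ := Groth.Calg2.CompleteStructure.surjective_ev ι hι a ham ha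
  letI : Algebra P Q := (MvPowerSeries.map φ : P →+* Q).toAlgebra
  let π₁ : Q →+* B₀ := π₀.comp constantCoeff
  have hcc : ∀ f : P, constantCoeff (algebraMap P Q f) = φ (constantCoeff f) := fun f => by
    show constantCoeff (MvPowerSeries.map φ f) = _
    rw [← coeff_zero_eq_constantCoeff_apply, coeff_map, coeff_zero_eq_constantCoeff_apply]
  have hmP : ∀ f : P, f ∈ maximalIdeal P ↔ constantCoeff f ∈ maximalIdeal Λ := fun f => by
    rw [mem_maximalIdeal, mem_maximalIdeal, mem_nonunits_iff, mem_nonunits_iff, isUnit_iff_constantCoeff]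
  have hkerπ₁ : RingHom.ker π₁ = (maximalIdeal P).map (algebraMap P Q) := by
    refine le_antisymm (fun z hz => ?_) (Ideal.map_le_iff_le_comap.mpr fun f hf => ?_)
    · have h1 : constantCoeff z ∈ (maximalIdeal Λ).map φ := by rw [← hker₀]; exact hz
      rw [show z = (z - MvPowerSeries.C (constantCoeff z)) + MvPowerSeries.C (constantCoeff z) by ring]
      refine add_mem ?_ ?_
      · have h2 : z - MvPowerSeries.C (constantCoeff z) ∈ varIdeal (Fin n) C := by
          rw [mem_varIdeal_iff, map_sub, constantCoeff_C, sub_self]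
        refine (Ideal.span_le.mpr ?_ : varIdeal (Fin n) C ≤ _) h2
        rintro - ⟨i, rfl⟩
        have h3 : (MvPowerSeries.X i : P) ∈ maximalIdeal P := by rw [hmP, constantCoeff_X]; exact zero_mem _
        have h4 := Ideal.mem_map_of_mem (algebraMap P Q) h3
        rwa [show algebraMap P Q (MvPowerSeries.X i) = MvPowerSeries.X i from MvPowerSeries.map_X φ i] at h4
      · have h2 := Ideal.mem_map_of_mem (MvPowerSeries.C (σ := Fin n) (R := C)) h1
        rw [Ideal.map_map] at h2
        refine (Ideal.map_le_iff_le_comap.mpr fun l hl => ?_ : (maximalIdeal Λ).map _ ≤ _) h2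
        rw [Ideal.mem_comap, RingHom.comp_apply, ← MvPowerSeries.map_C φ l]
        exact Ideal.mem_map_of_mem _ ((hmP _).mpr (by rw [constantCoeff_C]; exact hl))
    · show π₀ (constantCoeff (algebraMap P Q f)) = 0
      rw [hcc, ← RingHom.comp_apply, hπφ]
      simp [θ, hres _ ((hmP f).mp hf)]
  have hπ₁ : Function.Surjective π₁ := fun y => by
    obtain ⟨c, rfl⟩ := hπ₀ y
    exact ⟨MvPowerSeries.C c, congrArg π₀ (constantCoeff_C (σ := Fin n) c)⟩
  let efib : (Q ⧸ (maximalIdeal P).map (algebraMap P Q)) ≃+* B₀ :=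
    (Ideal.quotEquivOfEq hkerπ₁.symm).trans (RingHom.quotientKerEquivOfSurjective hπ₁)
  haveI : IsRegularLocalRing (Q ⧸ (maximalIdeal P).map (algebraMap P Q)) := IsRegularLocalRing.of_ringEquiv efib.symm
  haveI : IsLocalHom (algebraMap P Q) := ⟨fun f hf => by
    rw [isUnit_iff_constantCoeff, hcc] at hf
    by_contra hu
    have hu' : constantCoeff f ∈ maximalIdeal Λ := (hmP f).mp (by rwa [mem_maximalIdeal, mem_nonunits_iff])
    have h1 : φ (constantCoeff f) ∈ RingHom.ker π₀ := by rw [hker₀]; exact Ideal.mem_map_of_mem _ hu'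
    exact not_isUnit_zero (M₀ := B₀) (RingHom.mem_ker.mp h1 ▸ hf.map π₀)⟩
  haveI hflatPQ : Module.Flat P Q := by
    refine Groth.Agent.S2470.flat_of_params ?_
    have h1 := IsRegularLocalRing.spanFinrank_maximalIdeal (R := Q)
    rw [ringKrullDim_mvPowerSeries_eq, hdim, ← ringKrullDim_eq_of_ringEquiv efib, add_right_comm,
      ← ringKrullDim_mvPowerSeries_eq Λ n, ← IsRegularLocalRing.spanFinrank_maximalIdeal (R := P),
      ← IsRegularLocalRing.spanFinrank_maximalIdeal (R := Q ⧸ (maximalIdeal P).map (algebraMap P Q))] at h1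
    exact_mod_cast h1
  let K : Ideal P := RingHom.ker ev₁
  let e : (P ⧸ K) ≃+* R₁ := RingHom.quotientKerEquivOfSurjective hev
  have hK : K ≤ maximalIdeal P := IsLocalRing.le_maximalIdeal (RingHom.ker_ne_top ev₁)
  let B := Q ⧸ K.map (algebraMap P Q)
  have hKQ : K.map (algebraMap P Q) ≤ RingHom.ker π₁ := hkerπ₁ ▸ Ideal.map_mono hK
  haveI : Nontrivial B := Ideal.Quotient.nontrivial_iff.mpr fun h => RingHom.ker_ne_top π₁ (top_le_iff.mp (h ▸ hKQ))
  haveI : IsLocalRing B := IsLocalRing.of_surjective' _ Ideal.Quotient.mk_surjective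
  let toB : A →+* B := (algebraMap (P ⧸ K) B).comp (e.symm.toRingHom.comp (algebraMap A R₁))
  let π : B →+* B₀ := Ideal.Quotient.lift _ π₁ fun z hz => hKQ hz
  letI : Algebra A B := toB.toAlgebra
  have hπa : ∀ x : A, π (algebraMap A B x) = algebraMap (ResidueField A) B₀ (residue A x) := fun x => by
    obtain ⟨f, hf⟩ := hev (algebraMap A R₁ x)
    have h1 : algebraMap A B x = Ideal.Quotient.mk _ (algebraMap P Q f) := by
      show algebraMap (P ⧸ K) B (e.symm (algebraMap A R₁ x)) = _
      rw [← hf, show e.symm (ev₁ f) = Ideal.Quotient.mk K f from (RingEquiv.symm_apply_eq e).mpr rfl]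
      rfl
    rw [h1]
    show π₀ (constantCoeff (algebraMap P Q f)) = _
    rw [hcc, ← RingHom.comp_apply, hπφ]
    show algebraMap (ResidueField A) B₀ (rbar.symm (residue R₁ (ι (constantCoeff f)))) = _
    congr 1
    rw [RingEquiv.symm_apply_eq]
    have h2 : f - MvPowerSeries.C (constantCoeff f) ∈ varIdeal (Fin n) Λ := by
      rw [mem_varIdeal_iff, map_sub, constantCoeff_C, sub_self]
    have h3 := Ideal.mem_map_of_mem ev₁ h2
    rw [Groth.Calg2.CompleteStructure.map_varIdeal_ev, ha, ← residue_eq_zero_iff, map_sub, map_sub, sub_eq_zero,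
      Groth.Calg2.CompleteStructure.ev_C, hf] at h3
    rw [← h3]
    exact (ResidueField.map_residue (algebraMap A R₁) x).symm
  have hsurj : Function.Surjective π := Ideal.Quotient.lift_surjective_of_surjective _ _ hπ₁
  haveI : IsLocalHom (algebraMap A B) := ⟨fun x hx => by
    by_contra hu
    have h1 := hx.map π
    rw [hπa, (residue_eq_zero_iff x).mpr hu, map_zero] at h1
    exact not_isUnit_zero h1⟩
  refine ⟨B, inferInstance, inferInstance, inferInstance, inferInstance, inferInstance, π,
    Groth.Calg1.isAdicComplete_quotient _, ?_, hsurj, ?_, hπa⟩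
  · haveI : Module.Flat (P ⧸ K) B :=
      Module.Flat.of_linearEquiv (Algebra.TensorProduct.quotIdealMapEquivQuotTensor Q K).toLinearEquiv
    have h1 : (algebraMap A R₁).Flat := RingHom.flat_algebraMap_iff.mpr inferInstance
    have h2 : (algebraMap (P ⧸ K) B).Flat := RingHom.flat_algebraMap_iff.mpr inferInstance
    exact (h1.comp (RingHom.Flat.of_bijective e.symm.bijective)).comp h2
  · have h1 : (maximalIdeal A).map (algebraMap A B) = (maximalIdeal P).map ((Ideal.Quotient.mk _).comp (algebraMap P Q)) := by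
      have h2 : ((maximalIdeal A).map (algebraMap A R₁)).map (e.symm : R₁ →+* P ⧸ K) = (maximalIdeal P).map (Ideal.Quotient.mk K) := by
        rw [← AdicCompletion.maximalIdeal_eq_map]
        haveI : Nontrivial (P ⧸ K) := e.toEquiv.nontrivial
        haveI : IsLocalRing (P ⧸ K) := IsLocalRing.of_surjective' _ Ideal.Quotient.mk_surjective
        rw [IsLocalRing.map_maximalIdeal_of_surjective _ e.symm.surjective,
          IsLocalRing.map_maximalIdeal_of_surjective _ Ideal.Quotient.mk_surjective]
      show (maximalIdeal A).map ((algebraMap (P ⧸ K) B).comp ((e.symm : R₁ →+* P ⧸ K).comp (algebraMap A R₁))) = _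
      rw [← Ideal.map_map, ← Ideal.map_map, h2, Ideal.map_map]
      rfl
    rw [h1, ← Ideal.map_map, ← hkerπ₁, Ideal.ker_quotient_lift]

end Groth.Ega41Flat
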