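import Groth.Agent.Ega41Adic.CompleteLift
import Mathlib.RingTheory.AdicCompletion.Functoriality
import Mathlib.RingTheory.AdicCompletion.Noetherian
import Mathlib.RingTheory.Flat.EquationalCriterion
import Mathlib.RingTheory.Nakayama
import Mathlib.RingTheory.LocalRing.RingHom.Basic

/-! Lifts and isomorphisms of complete local algebras. -/

universe u

namespace Groth.Ega41Flat

open IsLocalRing EGA41 Groth.Ega41Adic

variable {A B C : Type u} [CommRing A] [CommRing B] [CommRing C] [Algebra A B] [Algebra A C]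

/-- A map into a flat algebra which is surjective, and injective modulo `J` for an ideal `J` in the
Jacobson radical, is injective. -/
theorem injective_of_flat [IsNoetherianRing B] [Module.Flat A C] (J : Ideal A) (v : B →ₐ[A] C)
    (hJ : J.map (algebraMap A B) ≤ Ideal.jacobson ⊥) (hsurj : Function.Surjective v)
    (hmod : ∀ x, v x ∈ J.map (algebraMap A C) → x ∈ J.map (algebraMap A B)) : Function.Injective v := by
  classical
  have hker : RingHom.ker v.toRingHom ≤ J.map (algebraMap A B) • RingHom.ker v.toRingHom := by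
    intro x hx
    have hvx : v x = 0 := hx
    have hxJ : x ∈ (J • ⊤ : Submodule A B) := by
      rw [Ideal.smul_top_eq_map]
      exact hmod x (by rw [hvx]; exact zero_mem _)
    obtain ⟨μ, hμ, rfl⟩ : ∃ μ : B →₀ A, (∀ y, μ y ∈ J) ∧ (μ.sum fun y r => r • y) = x := by
      clear hvx hx
      induction hxJ using Submodule.smul_induction_on' with
      | smul r hr y _ => exact ⟨Finsupp.single y r, fun z => by
          rw [Finsupp.single_apply]; split <;> simp [hr], Finsupp.sum_single_index (zero_smul A y)⟩
      | add x _ y _ hx hy =>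
        obtain ⟨μ, hμ, rfl⟩ := hx
        obtain ⟨ν, hν, rfl⟩ := hy
        exact ⟨μ + ν, fun z => add_mem (hμ z) (hν z),
          Finsupp.sum_add_index' (fun y => zero_smul A y) fun y r r' => add_smul r r' y⟩
    have hrel : ∑ i : μ.support, μ i • v (i : B) = 0 := by
      rw [Finset.sum_coe_sort μ.support (fun y : B => μ y • v y), ← hvx, Finsupp.sum, map_sum]
      simp only [map_smul]
    obtain ⟨L, D, z, hCz, hC⟩ := Module.Flat.isTrivialRelation_of_sum_smul_eq_zero hrel
    choose y hy using fun l => hsurj (z l)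
    have hx' : (μ.sum fun y r => r • y) = ∑ i : μ.support, μ i • ((i : B) - ∑ l, D i l • y l) := by
      simp only [smul_sub, Finset.sum_sub_distrib, Finset.smul_sum, smul_smul]
      rw [Finset.sum_comm (f := fun (i : μ.support) (l : Fin L) => (μ i * D i l) • y l)]
      simp only [← Finset.sum_smul, hC, zero_smul, Finset.sum_const_zero, sub_zero]
      exact (Finset.sum_coe_sort μ.support (fun y : B => μ y • y)).symm
    rw [hx']
    refine Submodule.sum_mem _ fun i _ => ?_
    rw [← IsScalarTower.algebraMap_smul B (μ (i : B)) (_ - _)]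
    refine Submodule.smul_mem_smul (Ideal.mem_map_of_mem _ (hμ i)) ?_
    show v _ = 0
    rw [map_sub, map_sum, show v (i : B) = ∑ l, D i l • z l from hCz i, sub_eq_zero]
    simp only [map_smul, hy]
  exact (RingHom.injective_iff_ker_eq_bot v.toRingHom).mpr
    (Submodule.eq_bot_of_le_smul_of_le_jacobson_bot _ _ (IsNoetherian.noetherian _) hker hJ)

variable [IsLocalRing A] [IsLocalRing B] [IsLocalRing C] [IsNoetherianRing C]

/-- A local algebra map out of a complete local ring which is surjective modulo `J` is surjective. -/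
theorem surjective_of_mod [IsAdicComplete (maximalIdeal B) B] [IsLocalHom (algebraMap A B)] (J : Ideal A) (hJ : J ≤ maximalIdeal A)
    (v : B →ₐ[A] C) (hv : (maximalIdeal B).map v.toRingHom ≤ maximalIdeal C)
    (hmod : ∀ y : C, ∃ b : B, v b - y ∈ J.map (algebraMap A C)) : Function.Surjective v := by
  haveI : IsHausdorff ((maximalIdeal B).map v.toRingHom) C :=
    IsHausdorff.of_le_jacobson _ _ (hv.trans (maximalIdeal_le_jacobson _))
  refine surjective_of_mk_map_comp_surjective (f := v.toRingHom) (I := maximalIdeal B) fun y => ?_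
  obtain ⟨y, rfl⟩ := Ideal.Quotient.mk_surjective y
  obtain ⟨b, hb⟩ := hmod y
  refine ⟨b, Ideal.Quotient.eq.mpr ?_⟩
  refine (Ideal.map_le_iff_le_comap.mpr fun a ha => ?_) hb
  rw [Ideal.mem_comap, ← v.commutes]
  exact Ideal.mem_map_of_mem _ (by simpa [mem_maximalIdeal] using hJ ha)

/-- A map into a flat complete algebra which is bijective modulo `J` is bijective. -/
theorem bijective_of_flat [IsNoetherianRing B] [IsAdicComplete (maximalIdeal B) B] [IsLocalHom (algebraMap A B)]
    [Module.Flat A C] (J : Ideal A) (hJ : J ≤ maximalIdeal A) (v : B →ₐ[A] C)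
    (hv : (maximalIdeal B).map v.toRingHom ≤ maximalIdeal C)
    (hsurj : ∀ y : C, ∃ b : B, v b - y ∈ J.map (algebraMap A C))
    (hinj : ∀ x, v x ∈ J.map (algebraMap A C) → x ∈ J.map (algebraMap A B)) : Function.Bijective v := by
  have h := surjective_of_mod J hJ v hv hsurj
  refine ⟨injective_of_flat J v ((Ideal.map_le_iff_le_comap.mpr fun a ha => ?_ : J.map (algebraMap A B) ≤ maximalIdeal B).trans
    (maximalIdeal_le_jacobson _)) h hinj, h⟩
  simpa [mem_maximalIdeal] using hJ ha

omit [IsLocalRing B] in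
/-- Lifting a local map into a quotient of a complete Noetherian local algebra. -/
theorem exists_lift_local {𝔟 : Ideal B} (hB : IsFormallySmoothAdic A (maximalIdeal A) B 𝔟)
    [IsAdicComplete (maximalIdeal C) C] [IsLocalHom (algebraMap A C)] (J : Ideal C) (hJ : J ≤ maximalIdeal C)
    (u : B →ₐ[A] C ⧸ J) (hu : 𝔟.map u.toRingHom ≤ (maximalIdeal C).map (Ideal.Quotient.mk J)) :
    ∃ v : B →ₐ[A] C, 𝔟.map v.toRingHom ≤ maximalIdeal C ∧ (Ideal.Quotient.mkₐ A J).comp v = u := by
  haveI : Nontrivial (C ⧸ J) := Ideal.Quotient.nontrivial_iff.mpr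
    fun h => (maximalIdeal.isMaximal C).ne_top (top_le_iff.mp (h ▸ hJ))
  haveI : IsLocalRing (C ⧸ J) := IsLocalRing.of_surjective' _ Ideal.Quotient.mk_surjective
  haveI : IsHausdorff ((maximalIdeal C).map (Ideal.Quotient.mk J)) (C ⧸ J) := by
    refine IsHausdorff.of_le_jacobson _ _ (le_trans ?_ (maximalIdeal_le_jacobson _))
    rw [IsLocalRing.map_maximalIdeal_of_surjective _ Ideal.Quotient.mk_surjective]
  obtain ⟨v, ⟨k, hk⟩, hv⟩ := exists_lift_complete (𝔠 := maximalIdeal C) (J := J) hB
    ⟨1, by rw [pow_one]; exact Ideal.map_le_iff_le_comap.mpr fun a ha => by simpa [mem_maximalIdeal] using ha⟩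
    ⟨1, by rwa [pow_one]⟩ u ⟨1, by rwa [pow_one]⟩
  refine ⟨v, fun x hx => ?_, hv⟩
  rw [Ideal.map_pow] at hk
  exact (maximalIdeal.isMaximal C).isPrime.mem_of_pow_mem k (hk (Ideal.pow_mem_pow hx k))

end Groth.Ega41Flat
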