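import Groth.Agent.Ega41Flat.Proj
import Groth.Agent.Ega41Flat.Iso
import Groth.Agent.Ega41Flat.FlatLift
import Groth.Agent.S2461
import Groth.Agent.HensPair.CompletionUnram
import Groth.Prelude.Def_Found

/-! Formal smoothness of local homomorphisms: flatness and the closed fibre (EGA 0_IV 19.7.1). -/

universe u

namespace Groth.Ega41Flat

open IsLocalRing EGA41 Groth.Ega41Adic
open scoped TensorProduct

/-- A surjective endomorphism of a Noetherian ring is injective. -/
theorem injective_of_surjective_endo {R : Type u} [CommRing R] [IsNoetherianRing R] (f : R →+* R)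
    (hf : Function.Surjective f) : Function.Injective f := by
  let F : ℕ → R →+* R := fun n => Nat.rec (RingHom.id R) (fun _ g => f.comp g) n
  have hF : ∀ n, Function.Surjective (F n) := fun n => by
    induction n with
    | zero => exact Function.surjective_id
    | succ n ih => exact hf.comp ih
  let K : ℕ →o Ideal R := ⟨fun n => RingHom.ker (F n), monotone_nat_of_le_succ fun n x hx => by
    show f (F n x) = 0
    rw [RingHom.mem_ker.mp hx, map_zero]⟩
  obtain ⟨n, hn⟩ := monotone_stabilizes_iff_noetherian.mpr (inferInstance : IsNoetherian R R) K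
  refine (injective_iff_map_eq_zero f).mpr fun x hx => ?_
  obtain ⟨y, rfl⟩ := hF n x
  have h1 : y ∈ K (n + 1) := hx
  rw [← hn (n + 1) (Nat.le_succ n)] at h1
  exact h1

/-- Two surjections in opposite directions between Noetherian rings are bijective. -/
theorem bijective_of_surjective_both {R S : Type u} [CommRing R] [IsNoetherianRing R] [CommRing S]
    (v : R →+* S) (w : S →+* R) (hv : Function.Surjective v) (hw : Function.Surjective w) :
    Function.Bijective v :=
  ⟨fun a b h => injective_of_surjective_endo (w.comp v) (hw.comp hv) (congrArg w h), hv⟩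

variable {A B : Type u} [CommRing A] [CommRing B] [Algebra A B] [IsLocalRing A] [IsLocalRing B]
  [IsLocalHom (algebraMap A B)]

theorem map_maximalIdeal_le : (maximalIdeal A).map (algebraMap A B) ≤ maximalIdeal B :=
  Ideal.map_le_iff_le_comap.mpr fun a ha => by simpa [mem_maximalIdeal] using ha

/-- For a local homomorphism the two notions of formal smoothness agree. -/
theorem isAdicFormallySmooth_iff_local :
    CAlgX.IsAdicFormallySmooth A B (maximalIdeal B) ↔ IsFormallySmoothAdic A (maximalIdeal A) B (maximalIdeal B) := by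
  refine ⟨fun h => isFormallySmoothAdic_of_sq fun C _ _ J hJ _ u hu => h C J hJ u hu, fun h C _ _ J hJ u hu => ?_⟩
  obtain ⟨k, hk⟩ := hu
  refine h C J ⟨2, hJ⟩ ⟨k + k, ?_⟩ u ⟨k, hk⟩
  rw [eq_bot_iff, pow_add, Ideal.map_mul, ← hJ, sq]
  have h1 : (maximalIdeal A ^ k).map (algebraMap A C) ≤ J := by
    refine Ideal.map_le_iff_le_comap.mpr fun a ha => ?_
    rw [Ideal.mem_comap, ← Ideal.Quotient.eq_zero_iff_mem]
    refine (u.commutes a).symm.trans (hk _ ?_)
    exact (Ideal.pow_right_mono (map_maximalIdeal_le (A := A) (B := B)) k) (by rw [← Ideal.map_pow]; exact Ideal.mem_map_of_mem _ ha)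
  exact Ideal.mul_mono h1 h1

/-- Geometric regularity of the fibre, over the residue field in either form. -/
theorem isGeometricallyRegular_fibre_iff :
    CAlg.IsGeometricallyRegular (maximalIdeal A).ResidueField ((maximalIdeal A).Fiber B) ↔
      ∀ (k' : Type u) [Field k'] [Algebra (A ⧸ maximalIdeal A) k'], Module.Finite (A ⧸ maximalIdeal A) k' →
        IsRegularRing (k' ⊗[A ⧸ maximalIdeal A] (B ⧸ (maximalIdeal A).map (algebraMap A B))) := by
  let m := maximalIdeal A
  let κ := m.ResidueField
  let r : (A ⧸ m) ≃+* κ := RingEquiv.ofBijective _ m.bijective_algebraMap_quotient_residueField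
  have key : ∀ (k' : Type u) [Field k'] [Algebra κ k'] [Algebra (A ⧸ m) k'] [IsScalarTower (A ⧸ m) κ k'],
      (IsRegularRing (k' ⊗[κ] (κ ⊗[A] B)) ↔ IsRegularRing (k' ⊗[A ⧸ m] (B ⧸ m.map (algebraMap A B)))) ∧
      (Module.Finite κ k' ↔ Module.Finite (A ⧸ m) k') := by
    intro k' _ _ _ _
    letI : Algebra A k' := ((algebraMap (A ⧸ m) k').comp (Ideal.Quotient.mk m)).toAlgebra
    haveI : IsScalarTower A (A ⧸ m) k' := IsScalarTower.of_algebraMap_eq fun _ => rfl
    haveI : IsScalarTower A κ k' := IsScalarTower.of_algebraMap_eq fun a => by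
      rw [IsScalarTower.algebraMap_apply A (A ⧸ m) k', IsScalarTower.algebraMap_apply A (A ⧸ m) κ,
        ← IsScalarTower.algebraMap_apply (A ⧸ m) κ k']
    let e : k' ⊗[κ] (κ ⊗[A] B) ≃+* k' ⊗[A ⧸ m] (B ⧸ m.map (algebraMap A B)) :=
      ((Algebra.TensorProduct.cancelBaseChange A κ k' k' B).toRingEquiv).trans
        (((Algebra.TensorProduct.cancelBaseChange A (A ⧸ m) k' k' B).toRingEquiv).symm.trans
          (Algebra.TensorProduct.congr (AlgEquiv.refl (R := k') (A₁ := k'))
            (Algebra.TensorProduct.quotIdealMapEquivQuotTensor B m).symm).toRingEquiv)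
    refine ⟨⟨fun h => IsRegularRing.of_ringEquiv e, fun h => IsRegularRing.of_ringEquiv e.symm⟩, ?_⟩
    have hs : Function.Surjective (algebraMap (A ⧸ m) κ) := r.surjective
    constructor
    · intro h
      haveI : Module.Finite (A ⧸ m) κ := Module.Finite.of_surjective (Algebra.linearMap (A ⧸ m) κ) hs
      exact Module.Finite.trans κ k'
    · intro h
      exact Module.Finite.of_restrictScalars_finite (A ⧸ m) κ k'
  constructor
  · intro h k' _ _ hfin
    letI : Algebra κ k' := ((algebraMap (A ⧸ m) k').comp r.symm.toRingHom).toAlgebra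
    haveI : IsScalarTower (A ⧸ m) κ k' := IsScalarTower.of_algebraMap_eq fun x => by
      show _ = algebraMap (A ⧸ m) k' (r.symm (r x))
      rw [r.symm_apply_apply]
    exact ((key k').1).mp (h k' ((key k').2.mpr hfin))
  · intro h k' _ _ hfin
    letI : Algebra (A ⧸ m) k' := ((algebraMap κ k').comp (algebraMap (A ⧸ m) κ)).toAlgebra
    haveI : IsScalarTower (A ⧸ m) κ k' := IsScalarTower.of_algebraMap_eq fun x => rfl
    exact ((key k').1).mpr (h k' ((key k').2.mp hfin))

omit [IsLocalRing B] [IsLocalHom (algebraMap A B)] in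
/-- Formal smoothness of the closed fibre from that of a quotient. -/
theorem isFormallySmoothAdic_fibre (J : Ideal A) (hJ : J ≤ maximalIdeal A) {B₀ : Type u} [CommRing B₀]
    [Algebra A B₀] [Algebra (A ⧸ J) B₀] [IsScalarTower A (A ⧸ J) B₀] {𝔟 : Ideal B} {𝔟₀ : Ideal B₀}
    (p : B →ₐ[A] B₀) (hp : Function.Surjective p) (hker : RingHom.ker p.toRingHom ≤ (maximalIdeal A).map (algebraMap A B))
    (h𝔟 : 𝔟.map p.toRingHom = 𝔟₀)
    (hfs : IsFormallySmoothAdic (A ⧸ J) ((maximalIdeal A).map (Ideal.Quotient.mk J)) B₀ 𝔟₀) :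
    IsFormallySmoothAdic (A ⧸ maximalIdeal A) ⊥ (B ⧸ (maximalIdeal A).map (algebraMap A B))
      (𝔟.map (Ideal.Quotient.mk ((maximalIdeal A).map (algebraMap A B)))) := by
  intro C _ _ I hI _ u ⟨k, hk⟩
  let fac : A ⧸ J →+* A ⧸ maximalIdeal A := Ideal.Quotient.factor hJ
  letI : Algebra A C := ((algebraMap (A ⧸ maximalIdeal A) C).comp (Ideal.Quotient.mk _)).toAlgebra
  haveI : IsScalarTower A (A ⧸ maximalIdeal A) C := IsScalarTower.of_algebraMap_eq fun _ => rfl
  letI : Algebra (A ⧸ J) C := ((algebraMap (A ⧸ maximalIdeal A) C).comp fac).toAlgebra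
  haveI : IsScalarTower A (A ⧸ J) C := IsScalarTower.of_algebraMap_eq fun _ => rfl
  let u₁ : B →ₐ[A] C ⧸ I := (u.restrictScalars A).comp (Ideal.Quotient.mkₐ A _)
  have hu₁ : ∀ x ∈ RingHom.ker p.toRingHom, u₁ x = 0 := fun x hx => by
    show u (Ideal.Quotient.mk _ x) = 0
    rw [Ideal.Quotient.eq_zero_iff_mem.mpr (hker hx), map_zero]
  let q : B₀ →+* C ⧸ I := RingHom.liftOfSurjective p.toRingHom hp ⟨u₁.toRingHom, fun x hx => hu₁ x hx⟩
  have hq : ∀ b, q (p b) = u₁ b := fun b => RingHom.liftOfRightInverse_comp_apply _ _ _ _ b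
  let u₀ : B₀ →ₐ[A ⧸ J] C ⧸ I :=
    { q with
      commutes' := fun c => by
        obtain ⟨a, rfl⟩ := Ideal.Quotient.mk_surjective c
        show q (algebraMap (A ⧸ J) B₀ (algebraMap A (A ⧸ J) a)) = algebraMap (A ⧸ J) (C ⧸ I) (algebraMap A (A ⧸ J) a)
        rw [← IsScalarTower.algebraMap_apply A (A ⧸ J) B₀, ← p.commutes, hq, AlgHom.commutes,
          ← IsScalarTower.algebraMap_apply] }
  obtain ⟨v, hv⟩ := hfs C I hI ⟨1, by
    rw [pow_one, Ideal.map_map, eq_bot_iff, Ideal.map_le_iff_le_comap]
    intro a ha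
    rw [Ideal.mem_comap, Ideal.mem_bot]
    show algebraMap (A ⧸ maximalIdeal A) C (Ideal.Quotient.mk _ a) = 0
    rw [Ideal.Quotient.eq_zero_iff_mem.mpr ha, map_zero]⟩ u₀ ⟨k, fun x hx => by
      rw [← h𝔟, ← Ideal.map_pow] at hx
      obtain ⟨b, hb, rfl⟩ := (Ideal.mem_map_iff_of_surjective _ hp).mp hx
      show q (p b) = 0
      rw [hq]
      exact hk _ (by rw [← Ideal.map_pow]; exact Ideal.mem_map_of_mem _ hb)⟩
  let v₁ : B →ₐ[A] C := (v.restrictScalars A).comp p
  have hv₁ : ∀ x ∈ (maximalIdeal A).map (algebraMap A B), v₁ x = 0 := by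
    intro x hx
    refine (Ideal.map_le_iff_le_comap (K := RingHom.ker v₁.toRingHom)).mpr (fun a ha => ?_) hx
    show v₁ (algebraMap A B a) = 0
    rw [v₁.commutes, IsScalarTower.algebraMap_apply A (A ⧸ maximalIdeal A) C,
      show algebraMap A (A ⧸ maximalIdeal A) a = 0 from Ideal.Quotient.eq_zero_iff_mem.mpr ha, map_zero]
  refine ⟨{ Ideal.Quotient.lift _ v₁.toRingHom hv₁ with commutes' := fun c => ?_ }, AlgHom.ext fun x => ?_⟩
  · obtain ⟨a, rfl⟩ := Ideal.Quotient.mk_surjective c
    exact (v₁.commutes a).trans (IsScalarTower.algebraMap_apply A (A ⧸ maximalIdeal A) C a)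
  · obtain ⟨b, rfl⟩ := Ideal.Quotient.mk_surjective x
    exact (AlgHom.congr_fun hv (p b)).trans (hq b)

variable [IsNoetherianRing A] [IsNoetherianRing B]

/-- The closed fibre of a formally smooth local algebra is regular. -/
theorem isRegularLocalRing_fibre (h : IsFormallySmoothAdic A (maximalIdeal A) B (maximalIdeal B))
    [IsLocalRing (B ⧸ (maximalIdeal A).map (algebraMap A B))] :
    IsRegularLocalRing (B ⧸ (maximalIdeal A).map (algebraMap A B)) := by
  letI : Field (A ⧸ maximalIdeal A) := Ideal.Quotient.field _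
  have h0 := isFormallySmoothAdic_quotient h
  rw [IsLocalRing.map_maximalIdeal_of_surjective _ Ideal.Quotient.mk_surjective] at h0
  exact isRegularLocalRing_of_isAdicFormallySmooth (isAdicFormallySmooth_iff.mpr h0)

omit [IsNoetherianRing B] in
/-- Formally smooth from flatness and the fibre. -/
theorem isFormallySmoothAdic_of_flat [IsNoetherianRing B] [Module.Flat A B]
    (h₀ : IsFormallySmoothAdic (A ⧸ maximalIdeal A) ⊥ (B ⧸ (maximalIdeal A).map (algebraMap A B))
      ((maximalIdeal B).map (Ideal.Quotient.mk _))) :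
    IsFormallySmoothAdic A (maximalIdeal A) B (maximalIdeal B) :=
  isFormallySmoothAdic_of_quotient formallyProj_of_flat h₀

/-- A complete formally smooth local algebra is flat. -/
theorem flat_of_formallySmooth_complete [IsAdicComplete (maximalIdeal B) B]
    (h : IsFormallySmoothAdic A (maximalIdeal A) B (maximalIdeal B)) : Module.Flat A B := by
  let F := B ⧸ (maximalIdeal A).map (algebraMap A B)
  haveI : Nontrivial F := Ideal.Quotient.nontrivial_iff.mpr fun h =>
    (maximalIdeal.isMaximal B).ne_top (top_le_iff.mp (h ▸ map_maximalIdeal_le (A := A) (B := B)))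
  haveI : IsLocalRing F := IsLocalRing.of_surjective' _ Ideal.Quotient.mk_surjective
  haveI : IsRegularLocalRing F := isRegularLocalRing_fibre h
  haveI : IsAdicComplete (maximalIdeal F) F := Groth.Calg1.isAdicComplete_quotient _
  letI : Algebra (ResidueField A) F := RingHom.toAlgebra (algebraMap (A ⧸ maximalIdeal A) F)
  obtain ⟨R, _, _, _, _, _, π, hcR, hfR, hsR, hkR, hπ⟩ := exists_flat_lift (A := A) F
  haveI := hcR; haveI := hfR
  let πₐ : R →ₐ[A] F := { π with commutes' := fun a => hπ a }
  have hR : IsFormallySmoothAdic A (maximalIdeal A) R (maximalIdeal R) := by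
    refine isFormallySmoothAdic_of_flat (isFormallySmoothAdic_fibre (A := A) (B := R) (maximalIdeal A) le_rfl
      πₐ hsR (le_of_eq hkR) (𝔟₀ := maximalIdeal F) (IsLocalRing.map_maximalIdeal_of_surjective π hsR) ?_)
    have h0 := isFormallySmoothAdic_quotient h
    rw [IsLocalRing.map_maximalIdeal_of_surjective _ Ideal.Quotient.mk_surjective] at h0
    rwa [Ideal.map_quotient_self]
  let e : (R ⧸ (maximalIdeal A).map (algebraMap A R)) ≃+* F :=
    (Ideal.quotEquivOfEq hkR.symm).trans (RingHom.quotientKerEquivOfSurjective hsR)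
  let u : B →ₐ[A] R ⧸ (maximalIdeal A).map (algebraMap A R) :=
    { e.symm.toRingHom.comp (Ideal.Quotient.mk _) with
      commutes' := fun a => by
        show e.symm (Ideal.Quotient.mk _ (algebraMap A B a)) = Ideal.Quotient.mk _ (algebraMap A R a)
        rw [RingEquiv.symm_apply_eq]
        exact (hπ a).symm }
  haveI : IsLocalRing (R ⧸ (maximalIdeal A).map (algebraMap A R)) := by
    haveI : Nontrivial (R ⧸ (maximalIdeal A).map (algebraMap A R)) := e.toEquiv.nontrivial
    exact IsLocalRing.of_surjective' _ Ideal.Quotient.mk_surjective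
  obtain ⟨v, hv, hvu⟩ := exists_lift_local h ((maximalIdeal A).map (algebraMap A R)) map_maximalIdeal_le u (by
    rw [IsLocalRing.map_maximalIdeal_of_surjective (Ideal.Quotient.mk _) Ideal.Quotient.mk_surjective]
    rw [IsLocalRing.map_maximalIdeal_of_surjective u.toRingHom (e.symm.surjective.comp Ideal.Quotient.mk_surjective)])
  obtain ⟨w, hw, hwπ⟩ := exists_lift_local hR ((maximalIdeal A).map (algebraMap A B)) map_maximalIdeal_le πₐ (by
    rw [IsLocalRing.map_maximalIdeal_of_surjective (Ideal.Quotient.mk _) Ideal.Quotient.mk_surjective]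
    rw [IsLocalRing.map_maximalIdeal_of_surjective πₐ.toRingHom hsR])
  have hvs : Function.Surjective v := surjective_of_mod (maximalIdeal A) le_rfl v hv fun y => by
    obtain ⟨b, hb⟩ := Ideal.Quotient.mk_surjective (e (Ideal.Quotient.mk _ y))
    refine ⟨b, Ideal.Quotient.eq.mp ((AlgHom.congr_fun hvu b).trans ?_)⟩
    show e.symm (Ideal.Quotient.mk _ b) = _
    rw [hb, e.symm_apply_apply]
  have hws : Function.Surjective w := surjective_of_mod (maximalIdeal A) le_rfl w hw fun y => by
    obtain ⟨r, hr⟩ := hsR (Ideal.Quotient.mk _ y)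
    exact ⟨r, Ideal.Quotient.eq.mp ((AlgHom.congr_fun hwπ r).trans hr)⟩
  have hbij := bijective_of_surjective_both v.toRingHom w.toRingHom hvs hws
  exact Module.Flat.of_linearEquiv (AlgEquiv.ofBijective v hbij).toLinearEquiv

/-- A formally smooth local algebra is flat. -/
theorem flat_of_formallySmooth (h : IsFormallySmoothAdic A (maximalIdeal A) B (maximalIdeal B)) :
    Module.Flat A B := by
  let Bh := AdicCompletion (maximalIdeal B) B
  haveI : IsNoetherianRing Bh :=
    Groth.Calg1.isNoetherianRing_adicCompletion _ (IsNoetherian.noetherian (maximalIdeal B))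
  haveI : IsLocalHom (algebraMap A Bh) := by
    rw [IsScalarTower.algebraMap_eq A B Bh]; infer_instance
  have h1 := (Groth.Agent.S2461.result (maximalIdeal A) (maximalIdeal B)).mp h
  rw [← AdicCompletion.maximalIdeal_eq_map] at h1
  haveI := flat_of_formallySmooth_complete h1
  exact Groth.HensPair.flat_of_completion A B

end Groth.Ega41Flat
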