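import Groth.Agent.Ega41Flat.Lift
import Mathlib.RingTheory.Filtration
import Mathlib.RingTheory.Flat.EquationalCriterion
import Mathlib.RingTheory.LocalRing.RingHom.Basic
import Mathlib.RingTheory.LocalRing.ResidueField.Basic
import Mathlib.LinearAlgebra.Basis.VectorSpace
import Mathlib.LinearAlgebra.Quotient.Basic

/-! A flat local homomorphism of Noetherian local rings is formally projective for the adic topologies. -/

universe u

namespace Groth.Ega41Flat

open IsLocalRing Submodule

/-- An independent set adapted to a finite decreasing chain. -/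
theorem exists_adapted {K V : Type*} [DivisionRing K] [AddCommGroup V] [Module K V] (n : ℕ) :
    ∀ S : ℕ → Set V, Antitone S → ∃ b ⊆ S 0, LinearIndepOn K id b ∧ ∀ t ≤ n, S t ⊆ span K (b ∩ S t) := by
  induction n with
  | zero =>
    intro S _
    obtain ⟨b, hb, -, hsp, hli⟩ := exists_linearIndepOn_id_extension (linearIndependent_empty K V) (Set.empty_subset (S 0))
    refine ⟨b, hb, hli, fun t ht => ?_⟩
    rw [Nat.le_zero.mp ht, Set.inter_eq_left.mpr hb]
    exact hsp
  | succ n ih =>
    intro S hS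
    obtain ⟨b, hb, hli, hsp⟩ := ih (fun t => S (t + 1)) fun i j h => hS (by omega)
    obtain ⟨b', hb', hbb', hsp', hli'⟩ := exists_linearIndepOn_id_extension hli (hb.trans (hS (Nat.zero_le 1)))
    refine ⟨b', hb', hli', fun t ht => ?_⟩
    rcases t with _ | t
    · rw [Set.inter_eq_left.mpr hb']
      exact hsp'
    · exact (hsp t (by omega)).trans (SetLike.coe_subset_coe.mpr (span_mono (Set.inter_subset_inter_left _ hbb')))

variable {A B : Type u} [CommRing A] [CommRing B] [Algebra A B]

/-- A family in a flat algebra which is independent modulo `m` is independent modulo `m ^ n`. -/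
theorem coeff_mem_pow [Module.Flat A B] (m : Ideal A) [m.IsMaximal] {ι : Type*} [Fintype ι] (g : ι → B)
    (hg : ∀ l : ι → A, (∑ i, l i • g i) ∈ m.map (algebraMap A B) → ∀ i, l i ∈ m)
    (n : ℕ) (a : ι → A) (ha : (∑ i, a i • g i) ∈ (m ^ n • ⊤ : Submodule A B)) : ∀ i, a i ∈ m ^ n := by
  classical
  obtain ⟨μ, hμ, hsum⟩ : ∃ μ : B →₀ A, (∀ y, μ y ∈ m ^ n) ∧ (μ.sum fun y r => r • y) = ∑ i, a i • g i := by
    generalize (∑ i, a i • g i) = x at ha ⊢
    induction ha using Submodule.smul_induction_on' with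
    | smul r hr y _ => exact ⟨Finsupp.single y r, fun z => by
        rw [Finsupp.single_apply]; split <;> simp [hr], Finsupp.sum_single_index (zero_smul A y)⟩
    | add x _ y _ hx hy =>
      obtain ⟨μ, hμ, rfl⟩ := hx
      obtain ⟨ν, hν, rfl⟩ := hy
      exact ⟨μ + ν, fun z => add_mem (hμ z) (hν z),
        Finsupp.sum_add_index' (fun y => zero_smul A y) fun y r r' => add_smul r r' y⟩
  have hrel : ∑ z : ι ⊕ μ.support, Sum.elim a (fun y : μ.support => -μ y) z • Sum.elim g (fun y : μ.support => (y : B)) z = 0 := by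
    rw [Fintype.sum_sum_type]
    simp only [Sum.elim_inl, Sum.elim_inr, neg_smul, Finset.sum_neg_distrib]
    rw [Finset.sum_coe_sort μ.support (fun y : B => μ y • y), ← hsum, Finsupp.sum, add_neg_cancel]
  obtain ⟨L, C, z, hCz, hC⟩ := Module.Flat.isTrivialRelation_of_sum_smul_eq_zero hrel
  have haC : ∀ l, ∑ i, a i * C (.inl i) l ∈ m ^ n := fun l => by
    have h := hC l
    rw [Fintype.sum_sum_type] at h
    simp only [Sum.elim_inl, Sum.elim_inr] at h
    rw [eq_neg_of_add_eq_zero_left h]
    exact neg_mem (Ideal.sum_mem _ fun y _ => Ideal.mul_mem_right _ _ (neg_mem (hμ y)))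
  letI : Field (A ⧸ m) := Ideal.Quotient.field m
  let Cm : Matrix ι (Fin L) (A ⧸ m) := fun i l => Ideal.Quotient.mk m (C (.inl i) l)
  have hinj : Function.Injective (Matrix.vecMulLinear Cm) := by
    rw [← LinearMap.ker_eq_bot, LinearMap.ker_eq_bot']
    intro lam hlam
    choose l hl using fun i => Ideal.Quotient.mk_surjective (lam i)
    have hmem : (∑ i, l i • g i) ∈ m.map (algebraMap A B) := by
      have h1 : ∀ i, g i = ∑ j, C (.inl i) j • z j := fun i => hCz (.inl i)
      simp only [h1, Finset.smul_sum, smul_smul]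
      rw [Finset.sum_comm]
      refine Ideal.sum_mem _ fun j _ => ?_
      rw [← Finset.sum_smul, Algebra.smul_def]
      refine Ideal.mul_mem_right _ _ (Ideal.mem_map_of_mem _ ?_)
      rw [← Ideal.Quotient.eq_zero_iff_mem, map_sum]
      simp only [map_mul, hl]
      exact congrFun hlam j
    funext i
    rw [← hl i]
    exact Ideal.Quotient.eq_zero_iff_mem.mpr (hg l hmem i)
  obtain ⟨G, hG⟩ := LinearMap.exists_leftInverse_of_injective _ (LinearMap.ker_eq_bot.mpr hinj)
  choose D hD using fun (l : Fin L) (i : ι) => Ideal.Quotient.mk_surjective (G (Pi.single l 1) i)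
  have hCD : ∀ i j, (∑ l, C (.inl i) l * D l j) - (if i = j then 1 else 0) ∈ m := fun i j => by
    rw [← Ideal.Quotient.eq_zero_iff_mem, map_sub, map_sum]
    simp only [map_mul, hD]
    have h1 := congrFun (LinearMap.congr_fun hG (Pi.single i 1)) j
    rw [LinearMap.comp_apply, LinearMap.id_apply, Matrix.vecMulLinear_apply, Matrix.single_one_vecMul,
      pi_eq_sum_univ' (Matrix.row Cm i), map_sum, Finset.sum_apply] at h1
    simp only [map_smul, Pi.smul_apply, smul_eq_mul, Pi.single_apply] at h1
    rw [sub_eq_zero]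
    refine h1.trans ?_
    by_cases hij : i = j <;> simp [hij, eq_comm]
  suffices ∀ t ≤ n, ∀ i, a i ∈ m ^ t from this n le_rfl
  intro t
  induction t with
  | zero => exact fun _ i => by simp
  | succ t ih =>
    intro ht i
    have h1 : ∑ j, a j * ∑ l, C (.inl j) l * D l i ∈ m ^ (t + 1) := by
      simp only [Finset.mul_sum, ← mul_assoc]
      rw [Finset.sum_comm]
      refine Ideal.sum_mem _ fun l _ => ?_
      rw [← Finset.sum_mul]
      exact Ideal.mul_mem_right _ _ (Ideal.pow_le_pow_right ht (haC l))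
    have h2 : ∑ j, a j * ((∑ l, C (.inl j) l * D l i) - if j = i then 1 else 0) ∈ m ^ (t + 1) :=
      Ideal.sum_mem _ fun j _ => by rw [pow_succ]; exact Ideal.mul_mem_mul (ih (by omega) j) (hCD j i)
    have h3 := sub_mem h1 h2
    simpa [mul_sub, Finset.sum_sub_distrib, mul_ite] using h3

/-- A flat local homomorphism of Noetherian local rings is formally projective. -/
theorem formallyProj_of_flat [IsLocalRing A] [IsLocalRing B] [IsNoetherianRing B] [Module.Flat A B] :
    FormallyProj (maximalIdeal A) (maximalIdeal B) := by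
  classical
  set m := maximalIdeal A
  set I := maximalIdeal B
  intro n P Q _ _ _ _ hP hQ f hf v hv
  obtain ⟨h, hv⟩ := hv
  let mB : Ideal B := m.map (algebraMap A B)
  obtain ⟨c, hc⟩ := Ideal.exists_pow_inf_eq_pow_smul I (mB : Submodule B B)
  have hAR : ∀ t, ∀ y ∈ I ^ (h + (t + 1) * c), y ∈ mB → y ∈ (m • (I ^ (h + t * c)).restrictScalars A : Submodule A B) := by
    intro t y hy hy'
    have hle : c ≤ h + (t + 1) * c := by rw [add_mul, one_mul]; omega
    have h1 : y ∈ I ^ (h + (t + 1) * c) • (⊤ : Submodule B B) ⊓ (mB : Submodule B B) :=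
      ⟨by rw [Ideal.smul_eq_mul, Ideal.mul_top]; exact hy, hy'⟩
    rw [hc _ hle, show h + (t + 1) * c - c = h + t * c by rw [add_mul, one_mul]; omega] at h1
    have h2 : y ∈ I ^ (h + t * c) • (mB : Submodule B B) := smul_mono le_rfl inf_le_right h1
    clear h1 hy hy' hle
    induction h2 using Submodule.smul_induction_on' with
    | smul z hz b hb =>
      have hb' : b ∈ (m • ⊤ : Submodule A B) := by rw [Ideal.smul_top_eq_map]; exact hb
      clear hb
      induction hb' using Submodule.smul_induction_on' with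
      | smul r hr x _ =>
        rw [smul_eq_mul, mul_smul_comm]
        exact smul_mem_smul hr (Ideal.mul_mem_right _ _ hz)
      | add x _ x' _ hx hx' => rw [smul_add]; exact add_mem hx hx'
    | add x _ x' _ hx hx' => exact add_mem hx hx'
  -- the fibre and its filtration
  letI : Field (A ⧸ m) := Ideal.Quotient.field m
  let π : B →ₗ[A] B ⧸ mB := (Ideal.Quotient.mkₐ A mB).toLinearMap
  let W : ℕ → Set (B ⧸ mB) := fun t => π '' (I ^ (h + t * c) : Ideal B)
  have hW : Antitone W := fun i j hij => Set.image_mono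
    (SetLike.coe_subset_coe.mpr (Ideal.pow_le_pow_right (by gcongr)))
  let S : ℕ → Set (B ⧸ mB) := fun t => match t with
    | 0 => Set.univ
    | t + 1 => W t
  have hS : Antitone S := antitone_nat_of_succ_le fun t => by
    rcases t with _ | t
    · exact Set.subset_univ _
    · exact hW (Nat.le_succ t)
  obtain ⟨b, -, hli, hsp⟩ := exists_adapted (K := A ⧸ m) (n + 1) S hS
  have hex : ∀ x : B ⧸ mB, ∃ y : B, π y = x ∧ ∀ t ≤ n, x ∈ W t → y ∈ I ^ (h + t * c) := by
    intro x
    by_cases hx : ∃ t, t ≤ n ∧ x ∈ W t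
    · obtain ⟨t₀, ht₀, hxt₀⟩ := hx
      obtain ⟨y, hy, hyx⟩ := Nat.findGreatest_spec (P := fun t => x ∈ W t) ht₀ hxt₀
      refine ⟨y, hyx, fun t ht hxt => Ideal.pow_le_pow_right ?_ hy⟩
      gcongr
      exact Nat.le_findGreatest (P := fun t => x ∈ W t) ht hxt
    · push_neg at hx
      obtain ⟨y, hy⟩ := Ideal.Quotient.mk_surjective x
      exact ⟨y, hy, fun t ht hxt => absurd hxt (hx t ht)⟩
  choose g hg hgW using hex
  -- lifting spans
  have hstep : ∀ (s : Set (B ⧸ mB)) (x : B), π x ∈ span (A ⧸ m) s → ∃ y ∈ span A (g '' s), x - y ∈ mB := by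
    intro s x hx
    have h1 : π x ∈ span A s := by
      rw [← restrictScalars_span A (A ⧸ m) Ideal.Quotient.mk_surjective]; exact hx
    rw [show s = π '' (g '' s) by simp [Set.image_image, hg], span_image] at h1
    obtain ⟨y, hy, hyx⟩ := h1
    exact ⟨y, hy, Ideal.Quotient.eq.mp hyx.symm⟩
  have hgen : ∀ t, (⊤ : Submodule A B) ≤ span A (g '' b) ⊔ m ^ t • ⊤ := by
    intro t
    induction t with
    | zero => rw [pow_zero, Ideal.one_eq_top, top_smul, sup_top_eq]
    | succ t ih =>
      intro x _
      obtain ⟨y, hy, hxy⟩ := hstep b x (by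
        have h1 := hsp 0 (Nat.zero_le _) (Set.mem_univ (π x))
        rwa [show b ∩ S 0 = b from Set.inter_univ b] at h1)
      have h2 : x - y ∈ (m • ⊤ : Submodule A B) := by rw [Ideal.smul_top_eq_map]; exact hxy
      have h3 : x - y ∈ m • span A (g '' b) ⊔ m ^ (t + 1) • (⊤ : Submodule A B) := by
        rw [pow_succ', mul_smul, ← smul_sup]
        exact smul_mono le_rfl ih h2
      rw [← add_sub_cancel y x]
      exact add_mem (le_sup_left (a := span A (g '' b)) hy) (SetLike.le_def.mp (sup_le_sup_right smul_le_right _) h3)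
  have hdeep : ∀ t ≤ n, (I ^ (h + t * c)).restrictScalars A ≤ span A (g '' (b ∩ W 0)) ⊔ m ^ t • ⊤ := by
    intro t
    induction t with
    | zero => intro _; rw [pow_zero, Ideal.one_eq_top, top_smul, sup_top_eq]; exact le_top
    | succ t ih =>
      intro ht x hx
      obtain ⟨y, hy, hxy⟩ := hstep (b ∩ W (t + 1)) x (hsp (t + 2) (by omega) ⟨x, hx, rfl⟩)
      have hyI : y ∈ I ^ (h + (t + 1) * c) := by
        refine (span_le (p := (I ^ (h + (t + 1) * c)).restrictScalars A)).mpr ?_ hy
        rintro - ⟨z, ⟨-, hz⟩, rfl⟩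
        exact hgW z (t + 1) ht hz
      have h2 := hAR t (x - y) (Ideal.sub_mem _ hx hyI) hxy
      have h3 : x - y ∈ m • span A (g '' (b ∩ W 0)) ⊔ m ^ (t + 1) • (⊤ : Submodule A B) := by
        rw [pow_succ', mul_smul, ← smul_sup]
        exact smul_mono le_rfl (ih (by omega)) h2
      rw [← add_sub_cancel y x]
      refine add_mem ?_ (SetLike.le_def.mp (sup_le_sup_right smul_le_right _) h3)
      exact le_sup_left (a := span A (g '' (b ∩ W 0)))
        (span_mono (Set.image_mono (Set.inter_subset_inter_right _ (hW (Nat.zero_le _)))) hy)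
  -- the presentation of `B / m ^ n B`
  let N : Submodule A B := m ^ n • ⊤
  let Φ : (b →₀ A) →ₗ[A] B ⧸ N := N.mkQ ∘ₗ Finsupp.linearCombination A (fun z : b => g z)
  have hΦ : Function.Surjective Φ := by
    intro q
    obtain ⟨x, rfl⟩ := N.mkQ_surjective q
    obtain ⟨y, hy, z, hz, rfl⟩ := Submodule.mem_sup.mp (hgen n (Submodule.mem_top (x := x)))
    rw [Set.image_eq_range, Finsupp.mem_span_range_iff_exists_finsupp] at hy
    obtain ⟨a, ha⟩ := hy
    refine ⟨a, ?_⟩
    show N.mkQ (Finsupp.linearCombination A _ a) = _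
    rw [Finsupp.linearCombination_apply, ha, map_add, N.mkQ_apply z, (Submodule.Quotient.mk_eq_zero N).mpr hz, add_zero]
  have hker : ∀ a, Φ a = 0 → ∀ i, a i ∈ m ^ n := by
    intro a ha i
    by_cases hi : i ∈ a.support
    · refine coeff_mem_pow m (fun z : a.support => g z.1.1) (fun l hl => ?_) n (fun z => a z.1) ?_ ⟨i, hi⟩
      · have hli' : LinearIndependent (A ⧸ m) (fun z : a.support => (z.1.1 : B ⧸ mB)) :=
          LinearIndependent.comp hli (fun z : a.support => z.1) Subtype.val_injective
        refine fun j => Ideal.Quotient.eq_zero_iff_mem.mp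
          (Fintype.linearIndependent_iff.mp hli' (fun z => Ideal.Quotient.mk m (l z)) ?_ j)
        have h1 : π (∑ z : a.support, l z • g z.1.1) = 0 := Ideal.Quotient.eq_zero_iff_mem.mpr hl
        rw [map_sum] at h1
        refine Eq.trans (Finset.sum_congr rfl fun z _ => ?_) h1
        rw [map_smul, hg]
        exact (IsScalarTower.algebraMap_smul (A ⧸ m) (l z) z.1.1).symm ▸ rfl
      · have h1 : Finsupp.linearCombination A (fun z : b => g z) a ∈ N := (Submodule.Quotient.mk_eq_zero N).mp ha
        rw [Finsupp.linearCombination_apply, Finsupp.sum, ← Finset.sum_coe_sort] at h1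
        exact h1
    · rw [Finsupp.notMem_support_iff.mp hi]; exact zero_mem _
  let p : b → P := fun z => if (z : B ⧸ mB) ∈ W 0 then 0 else (hf (v (g z))).choose
  have hp : ∀ z : b, f (p z) = v (g z) := fun z => by
    by_cases hz : (z : B ⧸ mB) ∈ W 0
    · simp only [p, if_pos hz, map_zero]
      exact (hv _ (by simpa using hgW z 0 (Nat.zero_le n) hz)).symm
    · simp only [p, if_neg hz]
      exact (hf (v (g z))).choose_spec
  let w : B →ₗ[A] P := (LinearMap.ker Φ).liftQ (Finsupp.linearCombination A p) (fun a ha => by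
      rw [LinearMap.mem_ker, Finsupp.linearCombination_apply]
      exact Finset.sum_eq_zero fun i _ => hP _ (hker a ha i) _) ∘ₗ
    (Φ.quotKerEquivOfSurjective hΦ).symm.toLinearMap ∘ₗ N.mkQ
  have hwΦ : ∀ a : b →₀ A, w (Finsupp.linearCombination A (fun z : b => g z) a) = Finsupp.linearCombination A p a := by
    intro a
    simp only [w, LinearMap.comp_apply, LinearEquiv.coe_coe]
    rw [show N.mkQ (Finsupp.linearCombination A (fun z : b => g z) a) = Φ a from rfl, show (Φ.quotKerEquivOfSurjective hΦ).symm (Φ a) = Submodule.Quotient.mk a from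
      (LinearEquiv.symm_apply_eq _).mpr rfl, Submodule.liftQ_apply]
  have hwg : ∀ z : b, w (g z) = p z := fun z => by
    simpa using hwΦ (Finsupp.single z 1)
  have hkill : ∀ {R : Type u} [AddCommGroup R] [Module A R], (∀ a ∈ m ^ n, ∀ y : R, a • y = 0) →
      ∀ (F : B →ₗ[A] R), ∀ x ∈ N, F x = 0 := by
    intro R _ _ hR F x hx
    induction hx using Submodule.smul_induction_on' with
    | smul r hr y _ => rw [map_smul, hR r hr]
    | add x _ y _ hx hy => rw [map_add, hx, hy, add_zero]
  refine ⟨w, ⟨h + n * c, fun x hx => ?_⟩, LinearMap.ext fun x => ?_⟩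
  · obtain ⟨y, hy, z, hz, rfl⟩ := Submodule.mem_sup.mp (hdeep n le_rfl hx)
    rw [map_add, hkill hP w z hz, add_zero]
    refine (span_le (p := LinearMap.ker w)).mpr ?_ hy
    rintro - ⟨x, ⟨hxb, hx0⟩, rfl⟩
    rw [SetLike.mem_coe, LinearMap.mem_ker, hwg ⟨x, hxb⟩]
    exact if_pos hx0
  · obtain ⟨y, hy, z, hz, rfl⟩ := Submodule.mem_sup.mp (hgen n (Submodule.mem_top (x := x)))
    rw [LinearMap.comp_apply, map_add, map_add, map_add, hkill hP w z hz, hkill hQ v z hz, map_zero, add_zero, add_zero]
    refine LinearMap.eqOn_span (f := f ∘ₗ w) (g := v) ?_ hy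
    rintro - ⟨x, hxb, rfl⟩
    rw [LinearMap.comp_apply, hwg ⟨x, hxb⟩, hp]

end Groth.Ega41Flat
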