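import Groth.Agent.Ega41Flat.Iso
import Groth.Agent.S2454
import Groth.Agent.S2363
import Groth.Agent.Ega41Exist.Geometric

/-! Cohen algebras: uniqueness and existence. -/

universe u

namespace Groth.Ega41Flat

open IsLocalRing EGA41

variable {A B C : Type u} [CommRing A] [IsLocalRing A] [CommRing B] [IsLocalRing B] [Algebra A B]
  [IsLocalHom (algebraMap A B)] [CommRing C] [IsLocalRing C] [IsNoetherianRing C] [Algebra A C]
  [IsLocalHom (algebraMap A C)] [IsAdicComplete (maximalIdeal C) C] [Module.Flat A C]

/-- An isomorphism of residue fields lifts to an isomorphism of Cohen algebras. -/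
theorem exists_algEquiv_of_isCohenAlgebra (h : IsCohenAlgebra A B)
    (hC : (maximalIdeal A).map (algebraMap A C) = maximalIdeal C)
    (σ : ResidueField B ≃+* ResidueField C)
    (hσ : ∀ a : A, σ (residue B (algebraMap A B a)) = residue C (algebraMap A C a)) :
    ∃ v : B ≃ₐ[A] C, ∀ b, residue C (v b) = σ (residue B b) := by
  have hFS := Groth.Agent.S2454.result h
  obtain ⟨-, hN, hcomp, -, hB, -⟩ := h
  haveI := hN
  haveI := hcomp
  let u : B →ₐ[A] C ⧸ maximalIdeal C :=
    { (σ.toRingHom.comp (residue B) : B →+* ResidueField C) with commutes' := hσ }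
  have hu : (maximalIdeal B).map u.toRingHom ≤ (maximalIdeal C).map (Ideal.Quotient.mk (maximalIdeal C)) := by
    refine Ideal.map_le_iff_le_comap.mpr fun x hx => ?_
    rw [Ideal.mem_comap]
    show σ (residue B x) ∈ _
    rw [(residue_eq_zero_iff x).mpr hx, map_zero]
    exact zero_mem _
  obtain ⟨v, hv, hvu⟩ := exists_lift_local hFS (maximalIdeal C) le_rfl u hu
  have key : ∀ b, residue C (v b) = σ (residue B b) := fun b => AlgHom.congr_fun hvu b
  have hbij : Function.Bijective v := by
    refine bijective_of_flat (maximalIdeal A) le_rfl v hv (fun y => ?_) (fun x hx => ?_)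
    · obtain ⟨b, hb⟩ := residue_surjective (σ.symm (residue C y))
      refine ⟨b, ?_⟩
      rw [hC, ← residue_eq_zero_iff, map_sub, key, hb, σ.apply_symm_apply, sub_self]
    · rw [hC, ← residue_eq_zero_iff, key, map_eq_zero_iff _ σ.injective, residue_eq_zero_iff] at hx
      rwa [hB]
  exact ⟨AlgEquiv.ofBijective v hbij, key⟩

omit [IsLocalRing B] [IsLocalRing C] in
/-- Existence of a Cohen algebra with given residue field extension. -/
theorem exists_cohen [IsNoetherianRing A] (K : Type u) [Field K] [Algebra (ResidueField A) K] :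
    ∃ (B : Type u) (_ : CommRing B) (_ : IsLocalRing B) (_ : Algebra A B) (_ : IsLocalHom (algebraMap A B)),
      IsNoetherianRing B ∧ IsAdicComplete (maximalIdeal B) B ∧ Module.Flat A B ∧
      (maximalIdeal A).map (algebraMap A B) = maximalIdeal B ∧
      Nonempty (ResidueField B ≃ₐ[ResidueField A] K) := by
  obtain ⟨B, _, _, hN, hloc, hlh, hflat, e, he⟩ := Groth.Agent.S2363.result (A := A) K
  haveI := hN; haveI := hloc; haveI := hlh; haveI := hflat
  have hmax : (maximalIdeal A).map (algebraMap A B) = maximalIdeal B := by
    refine IsLocalRing.eq_maximalIdeal ?_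
    exact Ideal.Quotient.maximal_of_isField _ (e.toMulEquiv.isField (Field.toIsField K))
  let R := AdicCompletion (maximalIdeal B) B
  haveI : IsNoetherianRing R := Groth.Calg1.isNoetherianRing_adicCompletion _ (IsNoetherian.noetherian (maximalIdeal B))
  haveI : Module.Flat A R := Module.Flat.trans A B R
  haveI : IsLocalHom (algebraMap B R) := by
    refine ((IsLocalRing.local_hom_TFAE (algebraMap B R)).out 3 0).mp fun x hx => ?_
    rw [Ideal.mem_comap, AdicCompletion.maximalIdeal_eq_map]
    exact Ideal.mem_map_of_mem _ hx
  haveI : IsLocalHom (algebraMap A R) := by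
    rw [IsScalarTower.algebraMap_eq A B R]; infer_instance
  refine ⟨R, inferInstance, inferInstance, inferInstance, inferInstance, inferInstance, ?_, inferInstance, ?_, ⟨?_⟩⟩
  · rw [AdicCompletion.maximalIdeal_eq_map]
    exact (IsAdicComplete.map_algebraMap_iff _ _).mpr (AdicCompletion.isAdicComplete (IsNoetherian.noetherian _))
  · rw [IsScalarTower.algebraMap_eq A B R, ← Ideal.map_map, hmax, AdicCompletion.maximalIdeal_eq_map]
  · let r : ResidueField B ≃+* ResidueField R :=
      RingEquiv.ofBijective _ (Groth.Ega41Exist.bijective_residueField_map_completion (A := B))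
    let e' : ResidueField B ≃+* K := (Ideal.quotEquivOfEq hmax.symm).trans e
    refine AlgEquiv.ofRingEquiv (f := r.symm.trans e') fun x => ?_
    obtain ⟨a, rfl⟩ := residue_surjective x
    have h1 : algebraMap (ResidueField A) (ResidueField R) (residue A a) = r (residue B (algebraMap A B a)) := by
      show residue R (algebraMap A R a) = ResidueField.map (algebraMap B R) (residue B (algebraMap A B a))
      rw [ResidueField.map_residue, ← IsScalarTower.algebraMap_apply A B R]
    rw [h1, RingEquiv.trans_apply, RingEquiv.symm_apply_apply]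
    exact he a

end Groth.Ega41Flat
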