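import Groth.Agent.Ega41Adic.Basic
import Mathlib.RingTheory.Ideal.Quotient.Operations
import Mathlib.Algebra.Algebra.Prod
import Mathlib.Algebra.Algebra.Subalgebra.Basic

/-! Formal smoothness can be checked on the fibre for formally projective algebras. -/

universe u

namespace Groth.Ega41Flat

open EGA41 Groth.Ega41Adic

variable {A B : Type u} [CommRing A] [CommRing B] [Algebra A B] {𝔞 : Ideal A} {𝔟 : Ideal B}

/-- The hypothesis of formal projectivity. -/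
def FormallyProj (𝔞 : Ideal A) (𝔟 : Ideal B) : Prop :=
  ∀ (n : ℕ) (P Q : Type u) [AddCommGroup P] [Module A P] [AddCommGroup Q] [Module A Q],
    (∀ a ∈ 𝔞 ^ n, ∀ y : P, a • y = 0) → (∀ a ∈ 𝔞 ^ n, ∀ y : Q, a • y = 0) →
    ∀ f : P →ₗ[A] Q, Function.Surjective f → ∀ v : B →ₗ[A] Q, (∃ m : ℕ, ∀ x ∈ 𝔟 ^ m, v x = 0) →
      ∃ w : B →ₗ[A] P, (∃ m : ℕ, ∀ x ∈ 𝔟 ^ m, w x = 0) ∧ f ∘ₗ w = v

/-- Lifting through an abstract fibre product. -/
theorem exists_lift_aux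
    (h₀ : IsFormallySmoothAdic (A ⧸ 𝔞) ⊥ (B ⧸ 𝔞.map (algebraMap A B))
      (𝔟.map (Ideal.Quotient.mk (𝔞.map (algebraMap A B)))))
    {C T S : Type u} [CommRing C] [CommRing T] [CommRing S] [Algebra A C] [Algebra A T] [Algebra A S]
    (J : Ideal C) (hJ : J ^ 2 = ⊥) (u : B →ₐ[A] C ⧸ J) (red : B →ₐ[A] T) (hred : Function.Surjective red)
    (f : S →ₐ[A] C) (g : S →ₐ[A] T) (hinj : ∀ p, f p = 0 → g p = 0 → p = 0)
    (hS : ∀ p, ∀ b, g p = red b → Ideal.Quotient.mk J (f p) = u b)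
    (w : B →ₗ[A] C) (hwu : ∀ b, Ideal.Quotient.mk J (w b) = u b) (hwred : ∀ b, red b = 0 → w b = 0)
    (haJ : ∀ a ∈ 𝔞, ∀ x ∈ J, a • x = 0) (e : B →ₗ[A] S) (he1 : ∀ b, f (e b) = w b) (he2 : ∀ b, g (e b) = red b)
    (r : ℕ) (hr : ∀ b ∈ 𝔟 ^ r, red b = 0) :
    ∃ v : B →ₐ[A] C, (Ideal.Quotient.mkₐ A J).comp v = u := by
  classical
  let I : Ideal S := 𝔞.map (algebraMap A S)
  let K : Ideal S := RingHom.ker g
  have hK : ∀ p : S, p ∈ K → f p ∈ J := fun p hp => by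
    rw [← Ideal.Quotient.eq_zero_iff_mem, hS p 0 (by rw [map_zero]; exact hp), map_zero]
  -- elements of `I` are determined by their second component
  have hI : ∀ p : S, p ∈ I → ∀ b : B, red b = g p → f p = w b := by
    intro p hp
    have hp' : p ∈ (𝔞 • ⊤ : Submodule A S) := by rw [Ideal.smul_top_eq_map]; exact hp
    refine Submodule.smul_induction_on (p := fun p : S => ∀ b : B, red b = g p → f p = w b) hp'
      (fun a ha y _ b hb => ?_) (fun x y hx hy b hb => ?_)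
    · obtain ⟨c, hc⟩ := hred (g y)
      have h1 : f y - w c ∈ J := by
        rw [← Ideal.Quotient.eq_zero_iff_mem, map_sub, hwu, hS y c hc.symm, sub_self]
      have h2 := haJ a ha _ h1
      rw [smul_sub, sub_eq_zero, ← map_smul, ← map_smul] at h2
      rw [h2, eq_comm, ← sub_eq_zero, ← map_sub]
      refine hwred _ ?_
      rw [map_sub, hb, map_smul, map_smul, hc, sub_self]
    · obtain ⟨c, hc⟩ := hred (g x)
      have hy' := hy (b - c) (by rw [map_sub, hb, hc, map_add, add_sub_cancel_left])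
      rw [map_add, hx c hc, hy', ← map_add, add_sub_cancel]
  let π : S →+* S ⧸ I := Ideal.Quotient.mk I
  let J0 : Ideal (S ⧸ I) := K.map π
  let θ : B →+* (S ⧸ I) ⧸ J0 :=
    { toFun := fun b => Ideal.Quotient.mk J0 (π (e b))
      map_one' := by
        rw [← map_one (Ideal.Quotient.mk J0), Ideal.Quotient.eq, ← map_one π, ← map_sub]
        refine Ideal.mem_map_of_mem _ (RingHom.mem_ker.mpr ?_)
        rw [map_sub, he2, map_one, map_one, sub_self]
      map_mul' := fun a b => by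
        rw [← map_mul (Ideal.Quotient.mk J0), Ideal.Quotient.eq, ← map_mul π, ← map_sub]
        refine Ideal.mem_map_of_mem _ (RingHom.mem_ker.mpr ?_)
        rw [map_sub, he2, map_mul g, he2, he2, map_mul, sub_self]
      map_zero' := by simp
      map_add' := fun a b => by simp }
  have hθA : ∀ a : A, θ (algebraMap A B a) = Ideal.Quotient.mk J0 (π (algebraMap A S a)) := fun a => by
    show Ideal.Quotient.mk J0 (π (e (algebraMap A B a))) = _
    rw [Ideal.Quotient.eq, ← map_sub]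
    refine Ideal.mem_map_of_mem _ (RingHom.mem_ker.mpr ?_)
    rw [map_sub, he2, AlgHom.commutes, AlgHom.commutes, sub_self]
  have hθI : ∀ x ∈ 𝔞.map (algebraMap A B), θ x = 0 := by
    intro x hx
    refine (Ideal.map_le_iff_le_comap (K := RingHom.ker θ)).mpr (fun a ha => ?_) hx
    rw [Ideal.mem_comap, RingHom.mem_ker, hθA, show π (algebraMap A S a) = 0 from
      Ideal.Quotient.eq_zero_iff_mem.mpr (Ideal.mem_map_of_mem _ ha), map_zero]
  let u0 : (B ⧸ 𝔞.map (algebraMap A B)) →ₐ[A ⧸ 𝔞] (S ⧸ I) ⧸ J0 :=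
    { Ideal.Quotient.lift _ θ hθI with
      commutes' := fun c => by
        obtain ⟨a, rfl⟩ := Ideal.Quotient.mk_surjective c
        exact hθA a }
  have hJ0 : IsNilpotent J0 := ⟨2, by
    rw [Submodule.zero_eq_bot, ← Ideal.map_pow, eq_bot_iff, Ideal.map_le_iff_le_comap]
    intro p hp
    rw [Ideal.mem_comap, Ideal.mem_bot]
    suffices p = 0 by rw [this, map_zero]
    rw [sq] at hp
    refine Submodule.mul_induction_on hp (fun x hx y hy => hinj _ ?_ ?_) fun x y hx hy => by rw [hx, hy, add_zero]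
    · rw [map_mul, ← Ideal.mem_bot, ← hJ, sq]
      exact Ideal.mul_mem_mul (hK x hx) (hK y hy)
    · rw [map_mul, RingHom.mem_ker.mp hx, zero_mul]⟩
  have hu0 : ∃ k : ℕ, ∀ x ∈ (𝔟.map (Ideal.Quotient.mk (𝔞.map (algebraMap A B)))) ^ k, u0 x = 0 := ⟨r, fun x hx => by
    rw [← Ideal.map_pow] at hx
    obtain ⟨b, hb, rfl⟩ := (Ideal.mem_map_iff_of_surjective _ Ideal.Quotient.mk_surjective).mp hx
    show Ideal.Quotient.mk J0 (π (e b)) = 0
    rw [show e b = 0 from hinj _ ((he1 b).trans (hwred b (hr b hb))) ((he2 b).trans (hr b hb)), map_zero, map_zero]⟩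
  obtain ⟨v0, hv0⟩ := h₀ (S ⧸ I) J0 hJ0 ⟨1, by rw [pow_one, Ideal.map_bot]⟩ u0 hu0
  let vB : B →+* S ⧸ I := v0.toRingHom.comp (Ideal.Quotient.mk (𝔞.map (algebraMap A B)))
  have huniq : ∀ p : S, p ∈ I → g p = 0 → p = 0 := fun p hp h2 =>
    hinj p ((hI p hp 0 (by rw [map_zero, h2])).trans (map_zero w)) h2
  have hex : ∀ b : B, ∃ p : S, π p = vB b ∧ g p = red b := fun b => by
    have h1 : Ideal.Quotient.mk J0 (vB b) = Ideal.Quotient.mk J0 (π (e b)) :=
      AlgHom.congr_fun hv0 (Ideal.Quotient.mk _ b)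
    rw [Ideal.Quotient.eq] at h1
    obtain ⟨z, hz, hz'⟩ := (Ideal.mem_map_iff_of_surjective _ Ideal.Quotient.mk_surjective).mp h1
    refine ⟨e b + z, by rw [map_add, show π z = vB b - π (e b) from hz', add_sub_cancel], ?_⟩
    rw [map_add, he2, RingHom.mem_ker.mp hz, add_zero]
  choose p hp hp2 using hex
  have heq : ∀ (b : B) (z : S), π z = vB b → g z = red b → z = p b := fun b z h1 h2 =>
    sub_eq_zero.mp (huniq _ (Ideal.Quotient.eq.mp (h1.trans (hp b).symm)) (by rw [map_sub, h2, hp2, sub_self]))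
  have hAv : ∀ a : A, vB (algebraMap A B a) = π (algebraMap A S a) := fun a => v0.commutes (Ideal.Quotient.mk 𝔞 a)
  let v : B →ₐ[A] S :=
    { toFun := p
      map_one' := (heq 1 1 (by rw [map_one, map_one]) (by rw [map_one, map_one])).symm
      map_mul' := fun a b => (heq (a * b) (p a * p b) (by rw [map_mul, map_mul, hp, hp])
        (by rw [map_mul, map_mul, hp2, hp2])).symm
      map_zero' := (heq 0 0 (by rw [map_zero, map_zero]) (by rw [map_zero, map_zero])).symm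
      map_add' := fun a b => (heq (a + b) (p a + p b) (by rw [map_add, map_add, hp, hp])
        (by rw [map_add, map_add, hp2, hp2])).symm
      commutes' := fun a => (heq _ _ (hAv a).symm (by rw [AlgHom.commutes, AlgHom.commutes])).symm }
  exact ⟨f.comp v, AlgHom.ext fun b => hS (p b) b (hp2 b)⟩

/-- Lifting along a square-zero ideal killed by `𝔞`. -/
theorem exists_lift_of_killed (hproj : FormallyProj 𝔞 𝔟)
    (h₀ : IsFormallySmoothAdic (A ⧸ 𝔞) ⊥ (B ⧸ 𝔞.map (algebraMap A B))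
      (𝔟.map (Ideal.Quotient.mk (𝔞.map (algebraMap A B)))))
    (C : Type u) [CommRing C] [Algebra A C] (J : Ideal C) (hJ : J ^ 2 = ⊥)
    (hC : ∃ k : ℕ, (𝔞 ^ k).map (algebraMap A C) = ⊥)
    (haJ : ∀ a ∈ 𝔞, ∀ x ∈ J, a • x = 0) (u : B →ₐ[A] C ⧸ J) (hu : ∃ k : ℕ, ∀ x ∈ 𝔟 ^ k, u x = 0) :
    ∃ v : B →ₐ[A] C, (Ideal.Quotient.mkₐ A J).comp v = u := by
  classical
  obtain ⟨n, hn⟩ := hC
  obtain ⟨m, hm⟩ := hu
  have hkill : ∀ a ∈ 𝔞 ^ n, ∀ y : C, a • y = 0 := fun a ha y => by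
    have : algebraMap A C a = 0 := by rw [← Ideal.mem_bot, ← hn]; exact Ideal.mem_map_of_mem _ ha
    rw [Algebra.smul_def, this, zero_mul]
  obtain ⟨w, ⟨q, hwq⟩, hw⟩ := hproj n C (C ⧸ J) hkill (fun a ha y => by
    obtain ⟨y, rfl⟩ := Ideal.Quotient.mk_surjective y
    rw [← Ideal.Quotient.mkₐ_eq_mk A, ← map_smul, hkill a ha, map_zero])
    (Ideal.Quotient.mkₐ A J).toLinearMap Ideal.Quotient.mk_surjective u.toLinearMap ⟨m, hm⟩
  have hwu : ∀ b, Ideal.Quotient.mk J (w b) = u b := fun b => LinearMap.congr_fun hw b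
  let r := max q m
  let ū : (B ⧸ 𝔟 ^ r) →ₐ[A] C ⧸ J :=
    Ideal.Quotient.liftₐ _ u fun x hx => hm x (Ideal.pow_le_pow_right (le_max_right q m) hx)
  let S : Subalgebra A (C × (B ⧸ 𝔟 ^ r)) :=
    AlgHom.equalizer ((Ideal.Quotient.mkₐ A J).comp (AlgHom.fst A C (B ⧸ 𝔟 ^ r))) (ū.comp (AlgHom.snd A C (B ⧸ 𝔟 ^ r)))
  let e : B →ₗ[A] S :=
    ((w.prod (Ideal.Quotient.mkₐ A (𝔟 ^ r)).toLinearMap).codRestrict S.toSubmodule fun b => hwu b)
  refine exists_lift_aux h₀ J hJ u (Ideal.Quotient.mkₐ A (𝔟 ^ r)) Ideal.Quotient.mk_surjective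
    ((AlgHom.fst A C (B ⧸ 𝔟 ^ r)).comp S.val) ((AlgHom.snd A C (B ⧸ 𝔟 ^ r)).comp S.val)
    (fun p h1 h2 => Subtype.ext (Prod.ext h1 h2)) (fun p b h => ?_) w hwu
    (fun b hb => hwq b (Ideal.pow_le_pow_right (le_max_left q m) (Ideal.Quotient.eq_zero_iff_mem.mp hb)))
    haJ e (fun _ => rfl) (fun _ => rfl) r fun b hb => Ideal.Quotient.eq_zero_iff_mem.mpr hb
  exact (p.2 : Ideal.Quotient.mk J p.1.1 = ū p.1.2).trans (congrArg ū h)

/-- Dévissage to ideals killed by `𝔞`. -/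
theorem exists_lift_of_pow_killed (hproj : FormallyProj 𝔞 𝔟)
    (h₀ : IsFormallySmoothAdic (A ⧸ 𝔞) ⊥ (B ⧸ 𝔞.map (algebraMap A B))
      (𝔟.map (Ideal.Quotient.mk (𝔞.map (algebraMap A B))))) (n : ℕ) :
    ∀ (C : Type u) [CommRing C] [Algebra A C] (J : Ideal C), J ^ 2 = ⊥ →
      (∃ k : ℕ, (𝔞 ^ k).map (algebraMap A C) = ⊥) → (𝔞 ^ n).map (algebraMap A C) * J = ⊥ →
      ∀ u : B →ₐ[A] C ⧸ J, (∃ k : ℕ, ∀ x ∈ 𝔟 ^ k, u x = 0) →
        ∃ v : B →ₐ[A] C, (Ideal.Quotient.mkₐ A J).comp v = u := by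
  induction n with
  | zero =>
    intro C _ _ J hJ hC hn u hu
    refine exists_lift_of_killed hproj h₀ C J hJ hC (fun a _ x hx => ?_) u hu
    rw [pow_zero, Ideal.one_eq_top, Ideal.map_top, Ideal.top_mul] at hn
    rw [show x = 0 from (Submodule.mem_bot C).mp (hn ▸ hx), smul_zero]
  | succ n ih =>
    intro C _ _ J hJ hC hn u hu
    let L : Ideal C := 𝔞.map (algebraMap A C) * J
    have hLJ : L ≤ J := Ideal.mul_le_right
    have hL : L ^ 2 = ⊥ := le_bot_iff.mp ((Ideal.pow_right_mono hLJ 2).trans hJ.le)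
    let e : ((C ⧸ L) ⧸ J.map (Ideal.Quotient.mk L)) ≃ₐ[A] C ⧸ J := DoubleQuot.quotQuotEquivQuotOfLEₐ A hLJ
    have hJ' : (J.map (Ideal.Quotient.mk L)) ^ 2 = ⊥ := by rw [← Ideal.map_pow, hJ, Ideal.map_bot]
    have hC' : ∃ k : ℕ, (𝔞 ^ k).map (algebraMap A (C ⧸ L)) = ⊥ := by
      obtain ⟨k, hk⟩ := hC
      refine ⟨k, ?_⟩
      rw [IsScalarTower.algebraMap_eq A C (C ⧸ L), ← Ideal.map_map, hk, Ideal.map_bot]
    obtain ⟨g, hg⟩ := exists_lift_of_killed hproj h₀ (C ⧸ L) (J.map (Ideal.Quotient.mk L)) hJ' hC'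
      (fun a ha x hx => by
        obtain ⟨y, hy, rfl⟩ := (Ideal.mem_map_iff_of_surjective _ Ideal.Quotient.mk_surjective).mp hx
        rw [← Ideal.Quotient.mkₐ_eq_mk A, ← map_smul, Ideal.Quotient.mkₐ_eq_mk, Ideal.Quotient.eq_zero_iff_mem,
          Algebra.smul_def]
        exact Ideal.mul_mem_mul (Ideal.mem_map_of_mem _ ha) hy)
      (e.symm.toAlgHom.comp u) (hu.imp fun k hk x hx => by simp [hk x hx])
    have hgc : ∃ k : ℕ, ∀ x ∈ 𝔟 ^ k, g x = 0 := continuous_of_quotient ⟨2, hJ'⟩ g 𝔟 (hu.imp fun k hk x hx => by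
      have := AlgHom.congr_fun hg x
      simp only [AlgHom.comp_apply, Ideal.Quotient.mkₐ_eq_mk] at this
      rw [this, hk x hx, map_zero])
    obtain ⟨f, hf⟩ := ih C L hL hC (by rw [← mul_assoc, ← Ideal.map_mul, ← pow_succ]; exact hn) g hgc
    refine ⟨f, AlgHom.ext fun b => ?_⟩
    show Ideal.Quotient.mk J (f b) = u b
    have h1 := congrArg e (AlgHom.congr_fun hg b)
    have h2 : Ideal.Quotient.mk L (f b) = g b := AlgHom.congr_fun hf b
    have h3 : e (Ideal.Quotient.mk _ (Ideal.Quotient.mk L (f b))) = Ideal.Quotient.mk J (f b) := rfl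
    rw [← h3, h2]
    exact h1.trans (e.apply_symm_apply _)

/-- Formal smoothness from the fibre. -/
theorem isFormallySmoothAdic_of_quotient (hproj : FormallyProj 𝔞 𝔟)
    (h₀ : IsFormallySmoothAdic (A ⧸ 𝔞) ⊥ (B ⧸ 𝔞.map (algebraMap A B))
      (𝔟.map (Ideal.Quotient.mk (𝔞.map (algebraMap A B))))) :
    IsFormallySmoothAdic A 𝔞 B 𝔟 :=
  isFormallySmoothAdic_of_sq fun C _ _ J hJ hC u hu => by
    obtain ⟨k, hk⟩ := hC
    exact exists_lift_of_pow_killed hproj h₀ k C J hJ ⟨k, hk⟩ (by rw [hk, Ideal.bot_mul]) u hu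

/-- The fibre of a formally smooth algebra is formally smooth. -/
theorem isFormallySmoothAdic_quotient (h : IsFormallySmoothAdic A 𝔞 B 𝔟) :
    IsFormallySmoothAdic (A ⧸ 𝔞) ⊥ (B ⧸ 𝔞.map (algebraMap A B))
      (𝔟.map (Ideal.Quotient.mk (𝔞.map (algebraMap A B)))) := by
  intro C _ _ J hJ _ u ⟨k, hk⟩
  letI : Algebra A C := ((algebraMap (A ⧸ 𝔞) C).comp (Ideal.Quotient.mk 𝔞)).toAlgebra
  haveI : IsScalarTower A (A ⧸ 𝔞) C := IsScalarTower.of_algebraMap_eq fun _ => rfl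
  let u' : B →ₐ[A] C ⧸ J := (u.restrictScalars A).comp (Ideal.Quotient.mkₐ A (𝔞.map (algebraMap A B)))
  obtain ⟨v, hv⟩ := h C J hJ ⟨1, by
    rw [pow_one, eq_bot_iff, Ideal.map_le_iff_le_comap]
    intro a ha
    rw [Ideal.mem_comap, Ideal.mem_bot, IsScalarTower.algebraMap_apply A (A ⧸ 𝔞) C,
      show algebraMap A (A ⧸ 𝔞) a = 0 from Ideal.Quotient.eq_zero_iff_mem.mpr ha, map_zero]⟩ u'
    ⟨k, fun x hx => hk _ (by rw [← Ideal.map_pow]; exact Ideal.mem_map_of_mem _ hx)⟩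
  have hvI : ∀ x ∈ 𝔞.map (algebraMap A B), v x = 0 := by
    intro x hx
    refine (Ideal.map_le_iff_le_comap (K := RingHom.ker v.toRingHom)).mpr (fun a ha => ?_) hx
    show v (algebraMap A B a) = 0
    rw [v.commutes, IsScalarTower.algebraMap_apply A (A ⧸ 𝔞) C,
      show algebraMap A (A ⧸ 𝔞) a = 0 from Ideal.Quotient.eq_zero_iff_mem.mpr ha, map_zero]
  refine ⟨{ Ideal.Quotient.lift _ v.toRingHom hvI with commutes' := fun c => ?_ }, AlgHom.ext fun x => ?_⟩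
  · obtain ⟨a, rfl⟩ := Ideal.Quotient.mk_surjective c
    exact (v.commutes a).trans (IsScalarTower.algebraMap_apply A (A ⧸ 𝔞) C a)
  · obtain ⟨b, rfl⟩ := Ideal.Quotient.mk_surjective x
    exact AlgHom.congr_fun hv b

end Groth.Ega41Flat
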