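import Groth.Agent.LocDual.CompleteQuotient
import Groth.Agent.Calg1.Completion

/-! Power series over complete regular local rings. -/

universe u

namespace Groth.Ega41Flat

open IsLocalRing MvPowerSeries Groth.SGA7.PS

variable (C : Type u) [CommRing C]

theorem ker_constantCoeff (n : ℕ) :
    RingHom.ker (constantCoeff : MvPowerSeries (Fin n) C →+* C) = varIdeal (Fin n) C := by
  ext g; rw [RingHom.mem_ker, mem_varIdeal_iff]

/-- Reduction of coefficients has the expected kernel. -/
theorem ker_map {D : Type u} [CommRing D] (f : C →+* D) (p : C) (hf : RingHom.ker f = Ideal.span {p}) (n : ℕ) :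
    RingHom.ker (MvPowerSeries.map f : MvPowerSeries (Fin n) C →+* MvPowerSeries (Fin n) D) =
      Ideal.span {MvPowerSeries.C p} := by
  ext g
  rw [RingHom.mem_ker, Ideal.mem_span_singleton]
  constructor
  · intro h
    have h' : ∀ d, p ∣ coeff d g := fun d => by
      rw [← Ideal.mem_span_singleton, ← hf, RingHom.mem_ker, ← coeff_map, h, map_zero]
    choose q hq using h'
    let h₂ : MvPowerSeries (Fin n) C := fun d => q d
    exact ⟨h₂, MvPowerSeries.ext fun d => by rw [coeff_C_mul, hq]; rfl⟩
  · rintro ⟨q, rfl⟩
    rw [map_mul, map_C, show f p = 0 by rw [← RingHom.mem_ker, hf]; exact Ideal.mem_span_singleton_self p, map_zero, zero_mul]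

/-- Power series over a regular local ring: the dimension. -/
theorem ringKrullDim_mvPowerSeries_eq [IsNoetherianRing C] (n : ℕ) :
    ringKrullDim (MvPowerSeries (Fin n) C) = ringKrullDim C + n := by
  refine le_antisymm (Groth.Calg2.CompleteStructure.ringKrullDim_mvPowerSeries_le n) ?_
  induction n with
  | zero =>
    rw [Nat.cast_zero, add_zero]
    exact le_of_eq (ringKrullDim_eq_of_ringEquiv
      (RingEquiv.ofBijective (constantCoeff : MvPowerSeries (Fin 0) C →+* C)
        ⟨fun a b hab => MvPowerSeries.ext fun e => by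
          rw [show e = 0 from Subsingleton.elim _ _, coeff_zero_eq_constantCoeff_apply,
            coeff_zero_eq_constantCoeff_apply, hab], fun l => ⟨MvPowerSeries.C l, constantCoeff_C l⟩⟩)).symm
  | succ n ih =>
    rw [ringKrullDim_eq_of_ringEquiv (finSuccEquiv C n).toRingEquiv]
    refine le_trans ?_ ringKrullDim_succ_le_ringKrullDim_powerseries
    rw [Nat.cast_succ, ← add_assoc]
    exact add_le_add ih le_rfl

/-- Power series over a complete regular local ring are complete. -/
theorem isAdicComplete_mvPowerSeries [IsRegularLocalRing C] [IsAdicComplete (maximalIdeal C) C] (n : ℕ) :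
    IsAdicComplete (maximalIdeal (MvPowerSeries (Fin n) C)) (MvPowerSeries (Fin n) C) := by
  haveI := Groth.LocDual.isRegularLocalRing_mvPowerSeries C n
  haveI := Groth.Calg6.isAdicComplete_varIdeal (σ := Fin n) (k := C)
  have hs : Function.Surjective (constantCoeff : MvPowerSeries (Fin n) C →+* C) :=
    fun l => ⟨MvPowerSeries.C l, constantCoeff_C l⟩
  let e : (MvPowerSeries (Fin n) C ⧸ varIdeal (Fin n) C) ≃+* C :=
    (Ideal.quotEquivOfEq (ker_constantCoeff C n).symm).trans (RingHom.quotientKerEquivOfSurjective hs)
  haveI : IsAdicComplete ((maximalIdeal (MvPowerSeries (Fin n) C)).map (Ideal.Quotient.mk (varIdeal (Fin n) C)))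
      (MvPowerSeries (Fin n) C ⧸ varIdeal (Fin n) C) := by
    rw [← IsAdicComplete.congr_ringEquiv (e := e), ← Ideal.map_coe (e : _ ≃+* C), Ideal.map_map,
      show (e : _ →+* C).comp (Ideal.Quotient.mk (varIdeal (Fin n) C)) = constantCoeff from rfl,
      IsLocalRing.map_maximalIdeal_of_surjective _ hs]
    infer_instance
  exact Groth.Calg1.isAdicComplete_of_quotient (varIdeal (Fin n) C) _

end Groth.Ega41Flat
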