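import Groth.Agent.Calg2.CompleteStructure
import Groth.Agent.Ega41Flat.PowerSeries
import Groth.Agent.Ega41Flat.CohenRing
import Groth.Agent.Calg7.IdemLift
import Groth.Agent.Ega4Algebra1.RegularParams

/-! Complete local rings as quotients of regular rings with the same number of generators. -/

universe u

namespace Groth.Ega41Flat

open IsLocalRing MvPowerSeries Groth.SGA7.PS

variable {S R : Type u} [CommRing S] [CommRing R] [IsLocalRing S] [IsLocalRing R] [IsNoetherianRing S]

/-- An element outside the square of the maximal ideal can be used as a generator. -/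
theorem exists_smaller_generators (x : S) (hx : x ∈ maximalIdeal S) (hx2 : x ∉ maximalIdeal S ^ 2) :
    ∃ s : Finset S, s.card + 1 ≤ (maximalIdeal S).spanFinrank ∧
      maximalIdeal S = Ideal.span {x} ⊔ Ideal.span (s : Set S) := by
  classical
  obtain ⟨a, ha⟩ := Groth.Ega4Algebra1.exists_span_eq_maximalIdeal (R := S) rfl
  obtain ⟨c, hc⟩ := (Submodule.mem_span_range_iff_exists_fun S).mp (by rw [← ha] at hx; exact hx : x ∈ Ideal.span (Set.range a))
  obtain ⟨j, hj⟩ : ∃ j, IsUnit (c j) := by
    by_contra hcon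
    push Not at hcon
    refine hx2 (hc ▸ Ideal.sum_mem _ fun i _ => ?_)
    rw [smul_eq_mul, pow_two]
    exact Ideal.mul_mem_mul (hcon i) (ha ▸ Ideal.subset_span ⟨i, rfl⟩)
  refine ⟨(Finset.univ.erase j).image a, ?_, le_antisymm ?_ (sup_le ((Ideal.span_singleton_le_iff_mem _).mpr hx) ?_)⟩
  · have h1 := Finset.card_image_le (s := Finset.univ.erase j) (f := a)
    rw [Finset.card_erase_of_mem (Finset.mem_univ _), Finset.card_univ, Fintype.card_fin] at h1
    have := j.pos
    omega
  · conv_lhs => rw [← ha]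
    refine Ideal.span_le.mpr ?_
    rintro - ⟨i, rfl⟩
    by_cases hij : i = j
    · subst hij
      have hsum : c i * a i = x - ∑ k ∈ Finset.univ.erase i, c k * a k := by
        rw [← hc, ← Finset.add_sum_erase _ _ (Finset.mem_univ i)]
        simp only [smul_eq_mul, add_sub_cancel_right]
      obtain ⟨d, hd⟩ := hj.exists_left_inv
      rw [SetLike.mem_coe, show a i = d * (c i * a i) by rw [← mul_assoc, hd, one_mul], hsum]
      refine Ideal.mul_mem_left _ _ (sub_mem (Ideal.mem_sup_left (Ideal.mem_span_singleton_self x))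
        (Ideal.mem_sup_right (Ideal.sum_mem _ fun k hk => Ideal.mul_mem_left _ _ (Ideal.subset_span ?_))))
      exact Finset.mem_coe.mpr (Finset.mem_image_of_mem a hk)
    · exact Ideal.mem_sup_right (Ideal.subset_span (Finset.mem_coe.mpr (Finset.mem_image_of_mem a
        (Finset.mem_erase.mpr ⟨hij, Finset.mem_univ i⟩))))
  · rw [Ideal.span_le]
    intro y hy
    obtain ⟨i, -, rfl⟩ := Finset.mem_image.mp (Finset.mem_coe.mp hy)
    exact ha ▸ Ideal.subset_span ⟨i, rfl⟩

/-- A surjection which does not lower the number of generators has kernel in the square of the maximal ideal. -/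
theorem ker_le_sq_of_spanFinrank_le (f : S →+* R) (hf : Function.Surjective f)
    (h : (maximalIdeal S).spanFinrank ≤ (maximalIdeal R).spanFinrank) :
    RingHom.ker f ≤ maximalIdeal S ^ 2 := by
  classical
  intro x hx
  by_contra hx2
  have hxm : x ∈ maximalIdeal S := IsLocalRing.le_maximalIdeal (RingHom.ker_ne_top f) hx
  obtain ⟨s, hcard, hs⟩ := exists_smaller_generators x hxm hx2
  have h1 : maximalIdeal R = Ideal.span ((s.image f : Finset R) : Set R) := by
    rw [← IsLocalRing.map_maximalIdeal_of_surjective f hf, hs, Ideal.map_sup, Ideal.map_span, Ideal.map_span,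
      Set.image_singleton, RingHom.mem_ker.mp hx, Ideal.span_singleton_eq_bot.mpr rfl, bot_sup_eq, Finset.coe_image]
  have h2 : (maximalIdeal R).spanFinrank ≤ (s.image f).card := by
    rw [h1]
    have := Submodule.spanFinrank_span_le_ncard_of_finite (R := R) (Finset.finite_toSet (s.image f))
    rwa [Set.ncard_coe_finset] at this
  have := Finset.card_image_le (s := s) (f := f)
  omega

omit [IsLocalRing S] [IsNoetherianRing S] in
/-- The coefficient ring of a complete local ring with `p = 0` is a field. -/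
theorem exists_coefficientField (R : Type u) [CommRing R] [IsLocalRing R] [IsAdicComplete (maximalIdeal R) R]
    (p : ℕ) [CharP (ResidueField R) p] (hp : (p : R) = 0) :
    ∃ (Λ : Type u) (_ : CommRing Λ) (ι : Λ →+* R), Function.Surjective ((residue R).comp ι) ∧ IsField Λ := by
  obtain ⟨Λ, _, ι, hι, hcase⟩ := Groth.Calg2.CompleteStructure.exists_coefficient R
  refine ⟨Λ, inferInstance, ι, hι, hcase.resolve_right ?_⟩
  rintro ⟨-, q, hq, hq0, hqm, -⟩
  have h1 : (q : ResidueField R) = 0 := by
    rw [← map_natCast (residue R), residue_eq_zero_iff]; exact hqm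
  rw [CharP.cast_eq_zero_iff (ResidueField R) p] at h1
  obtain ⟨c, rfl⟩ := h1
  exact hq0 (by rw [Nat.cast_mul, hp, zero_mul])

omit [IsLocalRing S] [IsNoetherianRing S] in
/-- A complete Noetherian local ring containing a field, presented with minimally many variables. -/
theorem exists_presentation_field (R : Type u) [CommRing R] [IsLocalRing R] [IsNoetherianRing R]
    [IsAdicComplete (maximalIdeal R) R] (p : ℕ) [CharP (ResidueField R) p] (hp : (p : R) = 0) :
    ∃ (K : Type u) (_ : Field K) (n : ℕ) (f : MvPowerSeries (Fin n) K →+* R),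
      Function.Surjective f ∧ n ≤ (maximalIdeal R).spanFinrank ∧
      RingHom.ker f ≤ maximalIdeal (MvPowerSeries (Fin n) K) ^ 2 := by
  obtain ⟨Λ, _, ι, hι, hF⟩ := exists_coefficientField R p hp
  letI := hF.toField
  obtain ⟨n, hn⟩ : ∃ n : ℕ, (maximalIdeal R).spanFinrank = n := ⟨_, rfl⟩
  obtain ⟨a, ha⟩ := Groth.Ega4Algebra1.exists_span_eq_maximalIdeal (R := R) hn
  have ham : ∀ i, a i ∈ maximalIdeal R := fun i => ha ▸ Ideal.subset_span ⟨i, rfl⟩
  have hs : Function.Surjective (Groth.Calg2.CompleteStructure.ev ι a ham) :=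
    Groth.Calg2.CompleteStructure.surjective_ev ι hι a ham ha
  haveI : IsRegularLocalRing (MvPowerSeries (Fin n) Λ) := Groth.Calg6.isRegularLocalRing_mvPowerSeries Λ n
  refine ⟨Λ, hF.toField, n, _, hs, hn.ge, ker_le_sq_of_spanFinrank_le _ hs ?_⟩
  have h := IsRegularLocalRing.spanFinrank_maximalIdeal (R := MvPowerSeries (Fin n) Λ)
  rw [Groth.Calg6.ringKrullDim_mvPowerSeries] at h
  exact le_of_eq ((by exact_mod_cast h : (maximalIdeal (MvPowerSeries (Fin n) Λ)).spanFinrank = n).trans hn.symm)

omit [IsLocalRing S] [IsNoetherianRing S] in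
/-- An Artinian local ring with square-zero maximal ideal is a regular local ring modulo its square. -/
theorem exists_regular_mod_sq (R : Type u) [CommRing R] [IsLocalRing R] [IsArtinianRing R]
    (h : maximalIdeal R ^ 2 = ⊥) :
    ∃ (B : Type u) (_ : CommRing B) (_ : IsRegularLocalRing B), Nonempty (R ≃+* B ⧸ maximalIdeal B ^ 2) := by
  classical
  haveI : IsAdicComplete (maximalIdeal R) R := Groth.Calg7.IdemLift.isAdicComplete_of_pow_eq_bot _ _ (N := 2) h
  suffices ∃ (B : Type u) (_ : CommRing B) (_ : IsRegularLocalRing B) (f : B →+* R), Function.Surjective f ∧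
      (maximalIdeal B).spanFinrank ≤ (maximalIdeal R).spanFinrank by
    obtain ⟨B, _, _, f, hf, hn⟩ := this
    have hker : RingHom.ker f = maximalIdeal B ^ 2 := by
      refine le_antisymm (ker_le_sq_of_spanFinrank_le f hf hn) ?_
      rw [← Ideal.map_eq_bot_iff_le_ker, Ideal.map_pow, IsLocalRing.map_maximalIdeal_of_surjective f hf, h]
    exact ⟨B, inferInstance, inferInstance,
      ⟨((Ideal.quotEquivOfEq hker.symm).trans (RingHom.quotientKerEquivOfSurjective hf)).symm⟩⟩
  obtain ⟨p, hp⟩ := CharP.exists (ResidueField R)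
  by_cases hp0 : (p : R) = 0
  · obtain ⟨K, _, n, f, hf, hn, -⟩ := exists_presentation_field R p hp0
    haveI := Groth.Calg6.isRegularLocalRing_mvPowerSeries K n
    refine ⟨_, inferInstance, inferInstance, f, hf, le_trans (le_of_eq ?_) hn⟩
    have h1 := IsRegularLocalRing.spanFinrank_maximalIdeal (R := MvPowerSeries (Fin n) K)
    rw [Groth.Calg6.ringKrullDim_mvPowerSeries] at h1
    exact_mod_cast h1
  · obtain ⟨Λ, _, ι, hι, hcase⟩ := Groth.Calg2.CompleteStructure.exists_coefficient R
    have hpm : (p : R) ∈ maximalIdeal R := by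
      rw [← residue_eq_zero_iff, map_natCast]; exact CharP.cast_eq_zero (ResidueField R) p
    rcases hcase with hF | ⟨⟨hdom, hdvr, hcomp, q, hq, hmq⟩, -⟩
    · exfalso
      letI := hF.toField
      have h1 : ((residue R).comp ι) (p : Λ) = 0 := by rw [map_natCast]; exact CharP.cast_eq_zero (ResidueField R) p
      exact hp0 (by rw [← map_natCast ι, show (p : Λ) = 0 from (_root_.map_eq_zero _).mp h1, map_zero])
    obtain ⟨s, hcard, hs⟩ := exists_smaller_generators (p : R) hpm (by rw [h]; exact hp0)
    let a : Fin s.card → R := fun i => (s.equivFin.symm i : R)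
    have hrange : Set.range a = (s : Set R) := by
      ext x; exact ⟨fun ⟨i, hi⟩ => hi ▸ (s.equivFin.symm i).2, fun hx => ⟨s.equivFin ⟨x, hx⟩, by simp [a]⟩⟩
    have ham : ∀ i, a i ∈ maximalIdeal R := fun i =>
      hs ▸ Ideal.mem_sup_right (Ideal.subset_span (s.equivFin.symm i).2)
    let f := Groth.Calg2.CompleteStructure.ev ι a ham
    haveI : IsRegularLocalRing (MvPowerSeries (Fin s.card) Λ) := Groth.LocDual.isRegularLocalRing_mvPowerSeries Λ _
    have hres : ∀ x : R, ∃ y, x - f y ∈ maximalIdeal R := fun x => by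
      obtain ⟨l, hl⟩ := hι (residue R x)
      exact ⟨MvPowerSeries.C l, by
        rw [← residue_eq_zero_iff, map_sub, Groth.Calg2.CompleteStructure.ev_C, ← RingHom.comp_apply, hl, sub_self]⟩
    have hmem : ∀ z ∈ maximalIdeal R, ∃ y, f y = z := fun z hz => by
      rw [hs, ← hrange] at hz
      have hgen : ∀ g ∈ maximalIdeal R, (∃ y, f y = g) → ∀ r : R, ∃ y, f y = r * g := fun g hg ⟨y, hy⟩ r => by
        obtain ⟨y', hy'⟩ := hres r
        refine ⟨y' * y, ?_⟩
        rw [map_mul, hy, eq_comm, ← sub_eq_zero, ← sub_mul, ← Ideal.mem_bot, ← h, pow_two]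
        exact Ideal.mul_mem_mul hy' hg
      obtain ⟨u, hu, v, hv, rfl⟩ := Submodule.mem_sup.mp hz
      obtain ⟨r, rfl⟩ := Ideal.mem_span_singleton'.mp hu
      obtain ⟨c, rfl⟩ := (Submodule.mem_span_range_iff_exists_fun R).mp hv
      obtain ⟨y₁, hy₁⟩ := hgen _ hpm ⟨(p : MvPowerSeries (Fin s.card) Λ), map_natCast f p⟩ r
      choose y hy using fun i => hgen _ (ham i) ⟨MvPowerSeries.X i, Groth.Calg2.CompleteStructure.ev_X ι a ham i⟩ (c i)
      exact ⟨y₁ + ∑ i, y i, by simp [map_add, map_sum, hy₁, hy]⟩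
    refine ⟨_, inferInstance, inferInstance, f, fun x => ?_, ?_⟩
    · obtain ⟨y, hy⟩ := hres x
      obtain ⟨y', hy'⟩ := hmem _ hy
      exact ⟨y + y', by rw [map_add, hy', add_sub_cancel]⟩
    · have h1 := IsRegularLocalRing.spanFinrank_maximalIdeal (R := MvPowerSeries (Fin s.card) Λ)
      rw [ringKrullDim_mvPowerSeries_eq, IsDiscreteValuationRing.ringKrullDim_eq_one Λ] at h1
      have h2 : (maximalIdeal (MvPowerSeries (Fin s.card) Λ)).spanFinrank = 1 + s.card := by exact_mod_cast h1
      omega

end Groth.Ega41Flat
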