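import Groth.Agent.S2038
import Groth.Agent.Calg4.RegularHom

/-! Regular homomorphisms give formally smooth maps of local rings. -/

universe u

namespace Groth.Ega41Flat

open IsLocalRing

/-- A local regular homomorphism of Noetherian local rings is adically formally smooth. -/
theorem isAdicFormallySmooth_of_isRegularHom {A B : Type u} [CommRing A] [CommRing B] [IsLocalRing A]
    [IsLocalRing B] [IsNoetherianRing A] [IsNoetherianRing B] [Algebra A B] [IsLocalHom (algebraMap A B)]
    (h : CAlg.IsRegularHom A B) : CAlgX.IsAdicFormallySmooth A B (maximalIdeal B) :=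
  Groth.Agent.S2038.result.mp ⟨h.1, (h.2 (maximalIdeal A)).2⟩

open Groth.Calg4 in
/-- Localizations of a regular homomorphism. -/
theorem isRegularHom_localization_atPrime {A A' B : Type u} [CommRing A] [CommRing A'] [CommRing B]
    [Algebra A B] [Algebra A A'] (M : Submonoid A) [IsLocalization M A'] (h : CAlg.IsRegularHom A B)
    (q : Ideal B) [q.IsPrime] (C : Type u) [CommRing C] [Algebra B C] [IsLocalization.AtPrime C q]
    [Algebra A C] [IsScalarTower A B C] [Algebra A' C] [IsScalarTower A A' C] :
    CAlg.IsRegularHom A' C :=
  IsRegularHom.localization_source M (IsRegularHom.localization h q.primeCompl C)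

end Groth.Ega41Flat
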