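import Mathlib.RingTheory.MvPowerSeries.Expand
import Mathlib.RingTheory.MvPowerSeries.NoZeroDivisors
import Mathlib.RingTheory.Localization.FractionRing
import Mathlib.RingTheory.TensorProduct.Basic
import Mathlib.RingTheory.MvPowerSeries.Basic
import Mathlib.LinearAlgebra.TensorProduct.Basis
import Mathlib.Algebra.Field.Subfield.Basic
import Mathlib.LinearAlgebra.Projection
import Mathlib.LinearAlgebra.Basis.VectorSpace
import Mathlib.RingTheory.Flat.Basic
import Mathlib.Algebra.CharP.Lemmas

/-! Power series with coefficients in a subfield, inside the fraction field. -/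

universe u v

namespace Groth.Ega41Flat

open MvPowerSeries

variable {k : Type u} [Field k] {σ : Type v}

/-- A quotient of series with coefficients in `F`, when it is a series, has coefficients in `F`
(with a grading condition on the exponents `P`). -/
theorem coeff_mem_of_mul (F : Subfield k) (P : AddSubgroup (σ →₀ ℤ)) (cast : (σ →₀ ℕ) →+ (σ →₀ ℤ))
    (h s : MvPowerSeries σ k) (hs : s ≠ 0) (hsF : ∀ n, coeff n s ∈ F) (hsP : ∀ n, coeff n s ≠ 0 → cast n ∈ P)
    (hF : ∀ n, coeff n (h * s) ∈ F) (hP : ∀ n, coeff n (h * s) ≠ 0 → cast n ∈ P) :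
    ∀ n, coeff n h ∈ F ∧ (coeff n h ≠ 0 → cast n ∈ P) := by
  classical
  let W : Submodule F k := Submodule.span F {(1 : k)}
  have hW : ∀ x, x ∈ W ↔ x ∈ F := fun x => by
    rw [Submodule.mem_span_singleton]
    constructor
    · rintro ⟨c, rfl⟩
      show (c : k) * 1 ∈ F
      rw [mul_one]; exact c.2
    · exact fun hx => ⟨⟨x, hx⟩, mul_one x⟩
  obtain ⟨Q, hQ⟩ := Submodule.exists_isCompl W
  let π : k →ₗ[F] k := Q.subtype ∘ₗ Submodule.projectionOnto Q W hQ.symm
  have hπ : ∀ x, π x = 0 ↔ x ∈ F := fun x => by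
    show ((Submodule.projectionOnto Q W hQ.symm x : Q) : k) = 0 ↔ _
    rw [Submodule.coe_eq_zero, Submodule.projectionOnto_apply_eq_zero_iff, hW]
  let g : MvPowerSeries σ k := fun n => if cast n ∈ P then π (coeff n h) else coeff n h
  have hg : g * s = 0 := by
    ext n
    rw [map_zero, coeff_mul]
    by_cases hn : cast n ∈ P
    · have h0 : π (coeff n (h * s)) = 0 := (hπ _).mpr (hF n)
      rw [coeff_mul, map_sum] at h0
      rw [← h0]
      refine Finset.sum_congr rfl fun x hx => ?_
      by_cases hx2 : coeff x.2 s = 0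
      · rw [hx2, mul_zero, mul_zero, map_zero]
      have h1 : cast x.1 ∈ P := by
        have := P.sub_mem hn (hsP _ hx2)
        rwa [← Finset.mem_antidiagonal.mp hx, map_add, add_sub_cancel_right] at this
      rw [show coeff x.1 g = π (coeff x.1 h) from if_pos h1, mul_comm (coeff x.1 h),
        show coeff x.2 s * coeff x.1 h = (⟨_, hsF x.2⟩ : F) • coeff x.1 h from rfl, map_smul, mul_comm]
      rfl
    · have h0 : coeff n (h * s) = 0 := by
        by_contra hne; exact hn (hP n hne)
      rw [coeff_mul] at h0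
      rw [← h0]
      refine Finset.sum_congr rfl fun x hx => ?_
      by_cases hx2 : coeff x.2 s = 0
      · rw [hx2, mul_zero, mul_zero]
      have h1 : cast x.1 ∉ P := fun h1 => hn (by
        rw [← Finset.mem_antidiagonal.mp hx, map_add]; exact P.add_mem h1 (hsP _ hx2))
      rw [show coeff x.1 g = coeff x.1 h from if_neg h1]
  have hg0 : g = 0 := (mul_eq_zero.mp hg).resolve_right hs
  intro n
  have hn : coeff n g = 0 := by rw [hg0, map_zero]
  by_cases hcase : cast n ∈ P
  · rw [show coeff n g = π (coeff n h) from if_pos hcase] at hn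
    exact ⟨(hπ _).mp hn, fun _ => hcase⟩
  · rw [show coeff n g = coeff n h from if_neg hcase] at hn
    rw [hn]
    exact ⟨F.zero_mem, fun h0 => absurd rfl h0⟩

theorem coeff_mem_of_mul' (F : Subfield k) (h s : MvPowerSeries σ k) (hs : s ≠ 0) (hsF : ∀ n, coeff n s ∈ F)
    (hF : ∀ n, coeff n (h * s) ∈ F) (n : σ →₀ ℕ) : coeff n h ∈ F :=
  (coeff_mem_of_mul F ⊤ 0 h s hs hsF (fun _ _ => trivial) hF (fun _ _ => trivial) n).1

/-- Coefficients of a `p`-power. -/
theorem coeff_pow_expChar (p : ℕ) [ExpChar k p] (e : ℕ) (F : Subfield k) (hF : ∀ x : k, x ^ p ^ e ∈ F)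
    (f : MvPowerSeries σ k) (n : σ →₀ ℕ) : coeff n (f ^ p ^ e) ∈ F := by
  rw [← map_iterateFrobenius_expand p (expChar_ne_zero k p) f e, coeff_map, iterateFrobenius_def]
  exact hF _

/-- Normal form for the elements of the subfield generated by a subring of series. -/
theorem exists_eq_div {K : Type*} [Field K] {A : Type*} [CommRing A] (φ : A →+* K) (hφ : Function.Injective φ)
    (R : Subring A) (q : ℕ) (hq : 1 ≤ q) {x : K} (hx : x ∈ Subfield.closure (φ '' R)) :
    ∃ h ∈ R, ∃ b ∈ R, b ≠ 0 ∧ x * φ (b ^ q) = φ h := by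
  obtain ⟨y, hy, z, hz, rfl⟩ := Subfield.mem_closure_iff.mp hx
  have himg : Subring.closure (φ '' R) ≤ R.map φ := Subring.closure_le.mpr fun w hw => hw
  obtain ⟨a, ha, rfl⟩ := Subring.mem_map.mp (himg hy)
  obtain ⟨b, hb, rfl⟩ := Subring.mem_map.mp (himg hz)
  haveI : Nontrivial A := φ.domain_nontrivial
  by_cases hb0 : b = 0
  · exact ⟨0, R.zero_mem, 1, R.one_mem, one_ne_zero, by simp [hb0]⟩
  · refine ⟨a * b ^ (q - 1), R.mul_mem ha (R.pow_mem hb _), b, hb, hb0, ?_⟩
    obtain ⟨m, rfl⟩ := Nat.exists_eq_add_of_le hq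
    have : φ b ≠ 0 := (map_ne_zero_iff φ hφ).mpr hb0
    rw [show 1 + m - 1 = m by omega, map_mul, map_pow, map_pow, add_comm, pow_succ, div_mul_eq_mul_div]
    field_simp

/-- Series with coefficients in a subfield. -/
noncomputable def seriesIn (F : Subfield k) : Subring (MvPowerSeries σ k) := (MvPowerSeries.map F.subtype).range

theorem mem_seriesIn {F : Subfield k} {f : MvPowerSeries σ k} : f ∈ seriesIn F ↔ ∀ n, coeff n f ∈ F := by
  refine ⟨?_, fun h => ⟨(fun n => ⟨coeff n f, h n⟩ : MvPowerSeries σ F), ?_⟩⟩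
  · rintro ⟨g, rfl⟩ n; rw [coeff_map]; exact (coeff n g).2
  · ext n; rfl

theorem coe_seriesIn (F : Subfield k) : ((seriesIn F : Subring (MvPowerSeries σ k)) : Set (MvPowerSeries σ k)) = {f | ∀ n, coeff n f ∈ F} :=
  Set.ext fun _ => mem_seriesIn

open TensorProduct in
/-- Extension of scalars to a power series ring is injective. -/
theorem exists_tensor_injective (L : Type u) [Field L] [Algebra k L] :
    ∃ φ : L ⊗[k] MvPowerSeries σ k →+* MvPowerSeries σ L, Function.Injective φ := by
  classical
  let ψ : MvPowerSeries σ k →ₐ[k] MvPowerSeries σ L :=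
    { MvPowerSeries.map (algebraMap k L) with
      commutes' := fun c => by
        show MvPowerSeries.map (algebraMap k L) (algebraMap k (MvPowerSeries σ k) c) = _
        simp [MvPowerSeries.algebraMap_apply] }
  let φ : L ⊗[k] MvPowerSeries σ k →ₐ[k] MvPowerSeries σ L :=
    Algebra.TensorProduct.lift (IsScalarTower.toAlgHom k L (MvPowerSeries σ L)) ψ fun _ _ => Commute.all _ _
  refine ⟨φ.toRingHom, (injective_iff_map_eq_zero _).mpr fun z hz => ?_⟩
  let b := Module.Basis.ofVectorSpace k L
  obtain ⟨c, rfl⟩ := TensorProduct.eq_repr_basis_left b z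
  have hc : c = 0 := by
    ext i n
    have h := congrArg (coeff n) hz
    simp only [AlgHom.toRingHom_eq_coe, RingHom.coe_coe, map_finsuppSum, map_zero] at h
    have h2 : (c.sum fun i f => coeff n f • b i) = 0 := by
      rw [← h]
      refine Finsupp.sum_congr fun i _ => ?_
      simp only [φ, Algebra.TensorProduct.lift_tmul, IsScalarTower.coe_toAlgHom',
        MvPowerSeries.algebraMap_apply, Algebra.algebraMap_self, RingHom.id_apply, coeff_C_mul]
      show _ = b i * coeff n (MvPowerSeries.map (algebraMap k L) (c i))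
      rw [coeff_map, Algebra.smul_def, mul_comm]
    have h3 := b.linearIndependent
    rw [linearIndependent_iff] at h3
    have h4 := h3 (c.mapRange (coeff n) (map_zero _)) (by
      rw [Finsupp.linearCombination_apply, Finsupp.sum_mapRange_index (by simp)]
      exact h2)
    simpa using DFunLike.congr_fun h4 i
  simp [hc]

end Groth.Ega41Flat
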